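import Cfsg.Agent.GraphPerm.Table
import Cfsg.Agent.GraphPerm.Search
import Cfsg.Agent.Schur.PermCert
import Cfsg.Prelude.Def_KGroupFacts
import Mathlib.Data.Nat.Bitwise

/-!
# A double cover from signed permutations of labelled blocks

Points `2 * i` and `2 * i + 1` form block `i`, labelled by a set of points of the base action.
A signed permutation over `g` carries labels as `g` does, commutes with the sign change and
preserves a connected signed graph.
-/

set_option autoImplicit false

namespace CfsgLib.GraphMult.Signed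

open CfsgLib.GraphPerm
open CfsgLib.Schur.PermCert (Based)
open Equiv (Perm)
open scoped commutatorElement

/-- Entry `i` of a wide table. -/
def sget (t i : ℕ) : ℕ := (t >>> (11 * i)) % 2048

/-- Evaluate a numeral before use. -/
def strict {α : Type} (k : ℕ) (f : ℕ → α) : α :=
  match k with
  | 0 => f 0
  | i + 1 => f (i + 1)

theorem strict_eq {α : Type} (k : ℕ) (f : ℕ → α) : strict k f = f k := by cases k <;> rfl

/-- Bit `i` of a mask, by primitive operations. -/
def bitN (M i : ℕ) : ℕ := Nat.land (Nat.shiftRight M i) 1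

theorem testBit_eq_bitN (M i : ℕ) : M.testBit i = Nat.beq (bitN M i) 1 := by
  rw [bitN, show Nat.land (Nat.shiftRight M i) 1 = (M >>> i) &&& 1 from rfl, Nat.and_one_is_mod,
    Nat.testBit, Nat.one_and_eq_mod_two]
  rcases Nat.mod_two_eq_zero_or_one (M >>> i) with h | h <;> rw [h] <;> rfl

/-- An entry of a table, by primitive operations. -/
def tgetP (t i : ℕ) : ℕ := Nat.mod (Nat.shiftRight t (Nat.mul 9 i)) 512

theorem tgetP_eq (t i : ℕ) : tgetP t i = tget t i := rfl

/-- An entry of a wide table, by primitive operations. -/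
def sgetP (t i : ℕ) : ℕ := Nat.mod (Nat.shiftRight t (Nat.mul 11 i)) 2048

/-- The mask of a list of points. -/
def maskOf (L : List ℕ) : ℕ := L.foldl (fun acc j => Nat.lor acc (Nat.shiftLeft 1 j)) 0

/-- Entry `i` of a list cut in pieces of 32. -/
def get2 {α : Type} (L : List (List α)) (d : α) (i : ℕ) : α := (L.getD (i / 32) []).getD (i % 32) d

/-- The data: `m` blocks with labels, neighbours of each point, and for each block
(parent, point of the parent, point of the block, depth). -/
structure Data where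
  n : ℕ
  m : ℕ
  labels : List (List ℕ)
  nb : List (List (List ℕ))
  tree : List (List (ℕ × ℕ × ℕ × ℕ))

namespace Data

variable (D : Data)

/-- The number of points. -/
def N : ℕ := 2 * D.m

/-- The label of a point. -/
def lab (x : ℕ) : ℕ := get2 D.labels 0 (x / 2)

/-- Adjacency. -/
def adj (x y : ℕ) : Bool := (maskOf (get2 D.nb [] x)).testBit y

/-- Labels increase. -/
def incr : List ℕ → Bool
  | a :: b :: l => Nat.blt a b && incr (b :: l)
  | _ => true

/-- The sign change. -/
def flipN (x : ℕ) : ℕ := Nat.xor x 1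

/-- The checks on the data. -/
def OK : Bool :=
  incr D.labels.flatten &&
    (forBelow D.m fun i => strict i fun i => strict (get2 D.labels 0 i) fun M =>
      Nat.beq (D.labels.flatten.getD i 0) M && Nat.blt i D.labels.flatten.length &&
        Nat.blt M (2 ^ D.n)) &&
    forBelow D.m fun v => strict v fun v =>
      v == 0 ||
        let e := get2 D.tree (0, 0, 0, 0) v
        Nat.blt e.1 D.m && Nat.blt e.2.1 D.N && Nat.blt e.2.2.1 D.N &&
          Nat.beq (e.2.1 / 2) e.1 && Nat.beq (e.2.2.1 / 2) v &&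
          Nat.blt (get2 D.tree (0, 0, 0, 0) e.1).2.2.2 e.2.2.2 &&
          ((D.adj e.2.1 e.2.2.1 && !D.adj e.2.1 (flipN e.2.2.1) &&
              !D.adj (flipN e.2.1) e.2.2.1) ||
            (D.adj e.2.2.1 e.2.1 && !D.adj e.2.2.1 (flipN e.2.1) &&
              !D.adj (flipN e.2.2.1) e.2.1))

/-- A table on points with its inverse commutes with the sign change and preserves the graph. -/
def nbOK (T T' : ℕ) : Bool :=
  forBelow D.N fun x => strict x fun x => strict (sgetP T x) fun y =>
    Nat.blt y D.N && Nat.beq (sgetP T' y) x && Nat.beq (sgetP T (flipN x)) (flipN y) &&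
      strict (maskOf (get2 D.nb [] y)) fun M =>
        (get2 D.nb [] x).all fun z => Nat.beq (bitN M (sgetP T z)) 1

/-- The labels are carried by a table of the base action as by a table on points. -/
def labOK (t T : ℕ) : Bool :=
  forBelow D.m fun i => strict i fun i => strict (D.lab (2 * i)) fun M =>
    strict (D.lab (sgetP T (2 * i))) fun M' =>
      forBelow D.n fun v => Nat.beq (bitN M' (tgetP t v)) (bitN M v)

/-- A table of the base action and a table on points with its inverse form a lift. -/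
def liftOK (t T T' : ℕ) : Bool := D.nbOK T T' && D.labOK t T

theorem flipN_div (x : ℕ) : flipN x / 2 = x / 2 := by
  rw [flipN, show Nat.xor x 1 = x ^^^ 1 from rfl]
  rcases Nat.mod_two_eq_zero_or_one x with h | h
  · rw [Nat.xor_one_of_even (Nat.even_iff.2 h)]; omega
  · rw [Nat.xor_one_of_odd (Nat.odd_iff.2 h)]; omega

theorem flipN_flipN (x : ℕ) : flipN (flipN x) = x := by
  simp [flipN, show ∀ a b, Nat.xor a b = a ^^^ b from fun _ _ => rfl, Nat.xor_assoc]

theorem flipN_ne (x : ℕ) : flipN x ≠ x := by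
  rw [flipN, show Nat.xor x 1 = x ^^^ 1 from rfl]
  rcases Nat.mod_two_eq_zero_or_one x with h | h
  · rw [Nat.xor_one_of_even (Nat.even_iff.2 h)]; omega
  · rw [Nat.xor_one_of_odd (Nat.odd_iff.2 h)]; omega

theorem eq_or_eq_flipN {x y : ℕ} (h : y / 2 = x / 2) : y = x ∨ y = flipN x := by
  rw [flipN, show Nat.xor x 1 = x ^^^ 1 from rfl]
  rcases Nat.mod_two_eq_zero_or_one x with hx | hx
  · rw [Nat.xor_one_of_even (Nat.even_iff.2 hx)]; omega
  · rw [Nat.xor_one_of_odd (Nat.odd_iff.2 hx)]; omega

theorem flipN_lt {x : ℕ} (h : x < D.N) : flipN x < D.N := by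
  have := flipN_div x
  simp only [Data.N] at h ⊢
  omega

/-- The sign change as a permutation. -/
def flip : Perm (Fin D.N) where
  toFun x := ⟨flipN x.val, D.flipN_lt x.isLt⟩
  invFun x := ⟨flipN x.val, D.flipN_lt x.isLt⟩
  left_inv x := Fin.ext (flipN_flipN x.val)
  right_inv x := Fin.ext (flipN_flipN x.val)

/-- A signed permutation over `g`. -/
def Good (g : Perm (Fin D.n)) (π : Perm (Fin D.N)) : Prop :=
  (∀ (x : Fin D.N) (v : Fin D.n),
      (D.lab (π x).val).testBit (g v).val = (D.lab x.val).testBit v.val) ∧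
    (∀ x, π (D.flip x) = D.flip (π x)) ∧
    ∀ x y : Fin D.N, D.adj x.val y.val = true → D.adj (π x).val (π y).val = true

theorem good_one : D.Good 1 1 := ⟨fun _ _ => rfl, fun _ => rfl, fun _ _ h => h⟩

theorem good_mul {g h : Perm (Fin D.n)} {π σ : Perm (Fin D.N)} (hg : D.Good g π)
    (hh : D.Good h σ) : D.Good (g * h) (π * σ) := by
  obtain ⟨g1, g2, g3⟩ := hg
  obtain ⟨h1, h2, h3⟩ := hh
  refine ⟨fun x v => ?_, fun x => ?_, fun x y e => ?_⟩
  · rw [Equiv.Perm.mul_apply, Equiv.Perm.mul_apply, g1, h1]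
  · rw [Equiv.Perm.mul_apply, Equiv.Perm.mul_apply, h2, g2]
  · rw [Equiv.Perm.mul_apply, Equiv.Perm.mul_apply]; exact g3 _ _ (h3 _ _ e)

/-- The cover of a subgroup. -/
def cover (K : Subgroup (Perm (Fin D.n))) : Subgroup (↥K × Perm (Fin D.N)) where
  carrier := {x | D.Good (x.1 : Perm (Fin D.n)) x.2}
  one_mem' := D.good_one
  mul_mem' ha hb := D.good_mul ha hb
  inv_mem' := by
    intro x hx
    have hpow : ∀ i : ℕ, D.Good ((x ^ i).1 : Perm (Fin D.n)) (x ^ i).2 := by
      intro i
      induction i with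
      | zero => exact D.good_one
      | succ i ih => rw [pow_succ]; exact D.good_mul ih hx
    obtain ⟨i, hi⟩ : ∃ i : ℕ, x ^ i = x⁻¹ := by
      have : x⁻¹ ∈ Subgroup.zpowers x := inv_mem (Subgroup.mem_zpowers x)
      rw [← mem_powers_iff_mem_zpowers, Submonoid.mem_powers_iff] at this
      exact this
    exact hi ▸ hpow i

variable (K : Subgroup (Perm (Fin D.n)))

/-- The projection. -/
def proj : ↥(D.cover K) →* ↥K := (MonoidHom.fst _ _).comp (D.cover K).subtype

theorem incr_inj : ∀ (L : List ℕ), incr L = true → L.Pairwise (· < ·)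
  | [], _ => List.Pairwise.nil
  | [a], _ => by simp
  | a :: b :: l, h => by
    simp only [incr, Bool.and_eq_true] at h
    have ih := incr_inj (b :: l) h.2
    have hab : a < b := Nat.le_of_ble_eq_true h.1
    refine List.pairwise_cons.2 ⟨fun c hc => ?_, ih⟩
    rcases List.mem_cons.1 hc with rfl | hc
    · exact hab
    · exact hab.trans ((List.pairwise_cons.1 ih).1 c hc)

theorem adj_iff {x y : ℕ} : D.adj x y = true ↔ y ∈ get2 D.nb [] x := by
  rw [adj, maskOf]
  constructor
  · exact fun h => ((Based.testBit_foldl_lor _ 0 y h)).resolve_left (by simp)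
  · intro h
    generalize get2 D.nb [] x = L at h
    have : ∀ (L : List ℕ) (acc : ℕ), y ∈ L ∨ acc.testBit y = true →
        (L.foldl (fun a j => Nat.lor a (Nat.shiftLeft 1 j)) acc).testBit y = true := by
      intro L
      induction L with
      | nil => intro acc h; simpa using h
      | cons j L ih =>
        intro acc h
        refine ih _ ?_
        beta_reduce
        rw [show Nat.lor acc (Nat.shiftLeft 1 j) = acc ||| (1 <<< j) from rfl, Nat.testBit_or,
          Nat.one_shiftLeft, Nat.testBit_two_pow, Bool.or_eq_true, decide_eq_true_eq]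
        rcases h with h | h
        · rcases List.mem_cons.1 h with rfl | h
          · exact Or.inr (Or.inr rfl)
          · exact Or.inl h
        · exact Or.inr (Or.inl h)
    exact this L 0 (Or.inl h)

theorem exists_lift {t T T' : ℕ} (hD : D.OK = true) (h : D.liftOK t T T' = true)
    {σ : Perm (Fin D.n)} (hσ : σ ∈ K) (hr : IsTab σ t) :
    ∃ y : ↥(D.cover K), (y.1.1 : Perm (Fin D.n)) = σ ∧ ∀ x, (y.1.2 x).val = sget T x.val := by
  simp only [liftOK, nbOK, labOK, strict_eq, forBelow_iff, Bool.and_eq_true, List.all_eq_true] at h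
  obtain ⟨h, hlab⟩ := h
  simp only [show sgetP = sget from rfl, show tgetP = tget from rfl] at h hlab
  have h1 : ∀ x < D.N, sget T x < D.N := fun x hx => Nat.le_of_ble_eq_true (h x hx).1.1.1
  let f : Fin D.N → Fin D.N := fun x => ⟨sget T x.val, h1 _ x.isLt⟩
  have hinj : Function.Injective f := fun x y e => by
    have ex := Nat.eq_of_beq_eq_true (h x x.isLt).1.1.2
    have ey := Nat.eq_of_beq_eq_true (h y y.isLt).1.1.2
    exact Fin.ext (by rw [← ex, ← ey]; exact congrArg (fun z : Fin D.N => sget T' z.val) e)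
  let π : Perm (Fin D.N) := Equiv.ofBijective f (Finite.injective_iff_bijective.1 hinj)
  refine ⟨⟨(⟨σ, hσ⟩, π), ⟨fun x v => ?_, fun x => Fin.ext ?_, fun x y e => ?_⟩⟩, rfl, fun _ => rfl⟩
  · have hxm : x.val / 2 < D.m := by have := x.isLt; simp only [Data.N] at this; omega
    have hbit := Nat.eq_of_beq_eq_true (hlab _ hxm v v.isLt)
    have : (D.lab (sget T (2 * (x.val / 2)))).testBit (tget t v.val) =
        (D.lab (2 * (x.val / 2))).testBit v.val := by
      rw [testBit_eq_bitN, testBit_eq_bitN]
      exact congrArg (fun k => Nat.beq k 1) hbit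
    rw [← hr v] at this
    have e1 : D.lab (2 * (x.val / 2)) = D.lab x.val := by
      rw [lab, lab, Nat.mul_div_cancel_left _ Nat.two_pos]
    have e2 : D.lab (sget T (2 * (x.val / 2))) = D.lab (sget T x.val) := by
      have hlt2 : 2 * (x.val / 2) < D.N := by simp only [Data.N]; omega
      have key := eq_or_eq_flipN (x := 2 * (x.val / 2)) (y := x.val)
        (Nat.mul_div_cancel_left _ Nat.two_pos).symm
      generalize 2 * (x.val / 2) = w at hlt2 key ⊢
      rcases key with e | e
      · rw [e]
      · rw [e, Nat.eq_of_beq_eq_true (h _ hlt2).1.2, lab, lab, flipN_div]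
    rw [e1, e2] at this
    exact this
  · exact Nat.eq_of_beq_eq_true (h x x.isLt).1.2
  · have hy : y.val ∈ get2 D.nb [] x.val := D.adj_iff.1 e
    show (maskOf (get2 D.nb [] (sget T x.val))).testBit (sget T y.val) = true
    rw [testBit_eq_bitN]
    exact (h x x.isLt).2 _ hy

theorem ker_cases (hD : D.OK = true) {y : ↥(D.cover K)} (hy : y ∈ (D.proj K).ker) :
    (∀ x, y.1.2 x = x) ∨ ∀ x, y.1.2 x = D.flip x := by
  obtain ⟨h1, h2, h3⟩ := y.2
  have hg : (y.1.1 : Perm (Fin D.n)) = 1 := by
    have : y.1.1 = 1 := hy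
    rw [this]; rfl
  simp only [OK, strict_eq, Bool.and_eq_true, forBelow_iff, Bool.or_eq_true] at hD
  obtain ⟨⟨hincr, hlabs⟩, htree⟩ := hD
  have hnd : D.labels.flatten.Nodup := (incr_inj _ hincr).imp (fun h => Nat.ne_of_lt h)
  generalize y.1.2 = π at h1 h2 h3 ⊢
  have hblk : ∀ x : Fin D.N, (π x).val / 2 = x.val / 2 := by
    intro x
    have hm : ∀ z : Fin D.N, z.val / 2 < D.m := fun z => by
      have := z.isLt; simp only [Data.N] at this; omega
    have hb : ∀ z : Fin D.N, z.val / 2 < D.labels.flatten.length := fun z =>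
      Nat.le_of_ble_eq_true (hlabs _ (hm z)).1.2
    have hval : ∀ z : Fin D.N, D.labels.flatten[z.val / 2]'(hb z) = D.lab z.val := fun z => by
      rw [← List.getD_eq_getElem _ 0 (hb z)]
      exact Nat.eq_of_beq_eq_true (hlabs _ (hm z)).1.1
    refine (hnd.getElem_inj_iff (hi := hb (π x)) (hj := hb x)).1 ?_
    rw [hval, hval]
    refine Nat.eq_of_testBit_eq fun v => ?_
    by_cases hv : v < D.n
    · have := h1 x ⟨v, hv⟩
      rw [hg] at this
      exact this
    · have hsmall : ∀ z : Fin D.N, (D.lab z.val).testBit v = false := fun z => by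
        refine Nat.testBit_lt_two_pow (lt_of_lt_of_le ?_ (Nat.pow_le_pow_right Nat.two_pos
          (Nat.le_of_not_lt hv)))
        exact Nat.le_of_ble_eq_true (hlabs _ (hm z)).2
      rw [hsmall, hsmall]
  have hmove : ∀ x, π x = x ∨ π x = D.flip x := fun x =>
    (eq_or_eq_flipN (hblk x)).elim (fun e => Or.inl (Fin.ext e)) (fun e => Or.inr (Fin.ext e))
  have hflip : ∀ x, π x = x ↔ π (D.flip x) = D.flip x := fun x =>
    ⟨fun e => by rw [h2, e], fun e => D.flip.injective (by rw [← h2, e])⟩
  -- adjacent points move together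
  have hedge : ∀ a b : Fin D.N, D.adj a.val b.val = true → D.adj a.val (flipN b.val) = false →
      D.adj (flipN a.val) b.val = false → (π a = a ↔ π b = b) := by
    intro a b hab h01 h10
    have := h3 a b hab
    constructor
    · intro ea
      rcases hmove b with eb | eb
      · exact eb
      · rw [ea, eb] at this
        exact absurd (this.symm.trans h01) Bool.noConfusion
    · intro eb
      rcases hmove a with ea | ea
      · exact ea
      · rw [ea, eb] at this
        exact absurd (this.symm.trans h10) Bool.noConfusion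
  have hsame : ∀ a b : Fin D.N, a.val / 2 = b.val / 2 → (π a = a ↔ π b = b) := by
    intro a b e
    rcases eq_or_eq_flipN e.symm with h | h
    · rw [show b = a from Fin.ext h]
    · rw [show b = D.flip a from Fin.ext h]; exact hflip a
  have hall : ∀ (d : ℕ) (v : ℕ), (get2 D.tree (0, 0, 0, 0) v).2.2.2 ≤ d → ∀ x : Fin D.N,
      x.val / 2 = v → ∀ o : Fin D.N, o.val / 2 = 0 → (π x = x ↔ π o = o) := by
    intro d
    induction d with
    | zero =>
      intro v hv x hx o ho
      have hvm : v < D.m := by have := x.isLt; simp only [Data.N] at this; omega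
      rcases htree v hvm with h | h
      · simp only [beq_iff_eq] at h; subst h
        exact hsame x o (hx.trans ho.symm)
      · exfalso
        have := Nat.le_of_ble_eq_true h.1.2
        omega
    | succ d ih =>
      intro v hv x hx o ho
      have hvm : v < D.m := by have := x.isLt; simp only [Data.N] at this; omega
      rcases htree v hvm with h | h
      · simp only [beq_iff_eq] at h; subst h
        exact hsame x o (hx.trans ho.symm)
      · simp only [Bool.not_eq_true'] at h
        obtain ⟨⟨⟨⟨⟨⟨hp, ha⟩, hb⟩, hpa⟩, hvb⟩, hdep⟩, hadj⟩ := h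
        generalize get2 D.tree (0, 0, 0, 0) v = e at hv hp ha hb hpa hvb hdep hadj
        obtain ⟨pv, a, b, dv⟩ := e
        have ha' : a < D.N := Nat.le_of_ble_eq_true ha
        have hb' : b < D.N := Nat.le_of_ble_eq_true hb
        have hp' := ih pv (by have := Nat.le_of_ble_eq_true hdep; simp only at this hv ⊢; omega)
          ⟨a, ha'⟩ (Nat.eq_of_beq_eq_true hpa) o ho
        rw [hsame x ⟨b, hb'⟩ (hx.trans (Nat.eq_of_beq_eq_true hvb).symm), ← hp']
        rcases hadj with ⟨⟨e1, e2⟩, e3⟩ | ⟨⟨e1, e2⟩, e3⟩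
        · exact (hedge ⟨a, ha'⟩ ⟨b, hb'⟩ e1 e2 e3).symm
        · exact hedge ⟨b, hb'⟩ ⟨a, ha'⟩ e1 e2 e3
  rcases Nat.eq_zero_or_pos D.N with h0 | h0
  · exact Or.inl fun x => absurd x.isLt (by omega)
  let o : Fin D.N := ⟨0, h0⟩
  have ho : o.val / 2 = 0 := Nat.zero_div 2
  by_cases he : π o = o
  · exact Or.inl fun x => (hall _ _ le_rfl x rfl o ho).2 he
  · exact Or.inr fun x => (hmove x).resolve_left fun e => he ((hall _ _ le_rfl x rfl o ho).1 e)

theorem card_ker_le (hD : D.OK = true) : ∀ y ∈ (D.proj K).ker, ∀ z ∈ (D.proj K).ker,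
    y ≠ 1 → z ≠ 1 → y = z := by
  intro y hy z hz hy1 hz1
  have hf : ∀ w ∈ (D.proj K).ker, w ≠ 1 → w.1.2 = D.flip := by
    intro w hw hne
    rcases D.ker_cases K hD hw with h | h
    · exact absurd (Subtype.ext (Prod.ext (show w.1.1 = 1 from hw) (Equiv.ext h))) hne
    · exact Equiv.ext h
  refine Subtype.ext (Prod.ext ?_ ((hf y hy hy1).trans (hf z hz hz1).symm))
  rw [show y.1.1 = 1 from hy, show z.1.1 = 1 from hz]

theorem isStemExtension_proj (hD : D.OK = true) (hsurj : Function.Surjective (D.proj K))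
    {a b : ↥(D.cover K)} (hab : Commute (D.proj K a) (D.proj K b)) (hne : a * b ≠ b * a) :
    Cfsg.IsStemExtension (D.proj K) ∧ Nat.card (D.proj K).ker = 2 := by
  have hker : ⁅a, b⁆ ∈ (D.proj K).ker := by
    rw [MonoidHom.mem_ker, map_commutatorElement, commutatorElement_eq_one_iff_commute]
    exact hab
  have hc : ⁅a, b⁆ ≠ 1 := fun h => hne (commutatorElement_eq_one_iff_commute.1 h).eq
  have hcases : ∀ w ∈ (D.proj K).ker, w = 1 ∨ w = ⁅a, b⁆ := fun w hw =>
    (eq_or_ne w 1).imp id fun h => D.card_ker_le K hD w hw _ hker h hc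
  refine ⟨⟨hsurj, fun w hw => Subgroup.mem_center_iff.2 fun g => ?_, fun w hw => ?_⟩, ?_⟩
  · rcases hcases w hw with rfl | rfl
    · simp
    · have hn := (MonoidHom.normal_ker (D.proj K)).conj_mem _ hker g
      rcases hcases _ hn with h | h
      · exfalso; apply hc
        rwa [mul_inv_eq_one, mul_eq_left] at h
      · exact mul_inv_eq_iff_eq_mul.1 h
  · rcases hcases w hw with rfl | rfl
    · exact one_mem _
    · exact Subgroup.commutator_mem_commutator (Subgroup.mem_top a) (Subgroup.mem_top b)
  · rw [Nat.card_eq_two_iff]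
    refine ⟨1, ⟨_, hker⟩, fun h => hc (congrArg Subtype.val h).symm, ?_⟩
    ext w
    simp only [Set.mem_insert_iff, Set.mem_singleton_iff, Set.mem_univ, iff_true]
    rcases hcases w.1 w.2 with h | h
    · exact Or.inl (Subtype.ext h)
    · exact Or.inr (Subtype.ext h)

/-- The image of a point under a word of wide tables. -/
def limg (Ts : List ℕ) (w : List ℕ) (x : ℕ) : ℕ :=
  w.foldr (fun a j => sget (Ts.getD a 0) j) x

/-- The checks on two commuting words. -/
def commOK (ts Ts u v : List ℕ) (x : ℕ) : Bool :=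
  Nat.beq ts.length 3 && wordEq D.n ts (u ++ v) (v ++ u) && (u ++ v).all (fun a => Nat.blt a 3) &&
    Nat.blt x D.N && !Nat.beq (limg Ts (u ++ v) x) (limg Ts (v ++ u) x)

/-- The double cover, when the group is generated by the three tables. -/
theorem exists_cover [Finite K] {ts Ts Ts' u v : List ℕ} {x : ℕ}
    (hD : D.OK = true)
    (hnb : ∀ i < 3, D.nbOK (Ts.getD i 0) (Ts'.getD i 0) = true)
    (hlab : ∀ i < 3, D.labOK (ts.getD i 0) (Ts.getD i 0) = true)
    (hok : D.commOK ts Ts u v x = true) (hgens : ∀ t ∈ ts, InTab K t)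
    (hlow : ∀ H : Subgroup (Perm (Fin D.n)), (∀ t ∈ ts, InTab H t) → Nat.card K ≤ Nat.card H) :
    ∃ (E : Type) (_ : Group E) (_ : Finite E) (τ : E →* K),
      Cfsg.IsStemExtension τ ∧ Nat.card τ.ker = 2 := by
  simp only [commOK, Bool.and_eq_true, Bool.not_eq_true', List.all_eq_true] at hok
  obtain ⟨⟨⟨⟨hlen, hw⟩, hlet⟩, hx⟩, hne⟩ := hok
  have hlift : ∀ i < 3, D.liftOK (ts.getD i 0) (Ts.getD i 0) (Ts'.getD i 0) = true := fun i hi => by
    rw [liftOK, Bool.and_eq_true]; exact ⟨hnb i hi, hlab i hi⟩
  have hlen' : ts.length = 3 := Nat.eq_of_beq_eq_true hlen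
  have hex : ∀ i, ∃ y : ↥(D.cover K), i < 3 →
      IsTab (y.1.1 : Perm (Fin D.n)) (ts.getD i 0) ∧
        ∀ z, (y.1.2 z).val = sget (Ts.getD i 0) z.val := by
    intro i
    by_cases hi : i < 3
    · obtain ⟨σ, hσ, r⟩ := hgens (ts.getD i 0) (by
        rw [List.getD_eq_getElem _ _ (hlen' ▸ hi)]; exact List.getElem_mem _)
      obtain ⟨y, ey, ty⟩ := D.exists_lift K hD (hlift i hi) hσ r
      exact ⟨y, fun _ => ⟨ey ▸ r, ty⟩⟩
    · exact ⟨1, fun h => absurd h hi⟩
  choose y hy using hex
  let f : ↥(D.cover K) →* Perm (Fin D.n) := K.subtype.comp (D.proj K)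
  have hbase : HasTabs ts fun i => f (y i) := fun i hi => (hy i (hlen' ▸ hi)).1
  have hsurj : Function.Surjective (D.proj K) := by
    have h := hlow ((D.proj K).range.map K.subtype) fun t ht => by
      obtain ⟨i, hi, rfl⟩ := List.getElem_of_mem ht
      refine ⟨f (y i), ⟨_, ⟨y i, rfl⟩, rfl⟩, ?_⟩
      rw [← List.getD_eq_getElem _ 0 hi]
      exact hbase i hi
    rw [Subgroup.card_map_of_injective K.subtype_injective] at h
    exact MonoidHom.range_eq_top.1 (Subgroup.eq_top_of_le_card _ h)
  have hlet' : ∀ a ∈ u ++ v, a < 3 := fun a ha => Nat.le_of_ble_eq_true (hlet a ha)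
  have hlet2 : ∀ a ∈ v ++ u, a < 3 := fun a ha => hlet' a (by
    rw [List.mem_append] at ha ⊢; exact ha.symm)
  have himg : ∀ w : List ℕ, (∀ a ∈ w, a < 3) → ∀ z,
      ((wval y w).1.2 z).val = limg Ts w z.val := by
    intro w
    induction w with
    | nil => intro _ z; rfl
    | cons a w ih =>
      intro hw z
      rw [wval_cons, Subgroup.coe_mul, Prod.snd_mul, Equiv.Perm.mul_apply,
        (hy a (hw a List.mem_cons_self)).2, ih (fun b hb => hw b (List.mem_cons_of_mem _ hb))]
      rfl
  have hb : wval (fun i => f (y i)) (u ++ v) = wval (fun i => f (y i)) (v ++ u) :=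
    (wordEq_iff hbase (fun a ha => hlen'.symm ▸ hlet' a ha)
      (fun a ha => hlen'.symm ▸ hlet2 a ha)).1 hw
  obtain ⟨hstem, hker⟩ := D.isStemExtension_proj K hD hsurj (a := wval y u) (b := wval y v)
    (by
      show D.proj K _ * D.proj K _ = D.proj K _ * D.proj K _
      refine Subtype.ext ?_
      rw [← map_mul, ← map_mul, ← wval_append, ← wval_append]
      show f (wval y _) = f (wval y _)
      rw [map_wval, map_wval]
      exact hb)
    (by
      rw [← wval_append, ← wval_append]
      intro e
      have e' := congrArg (fun z : ↥(D.cover K) => (z.1.2 ⟨x, Nat.le_of_ble_eq_true hx⟩).val) e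
      simp only [himg _ hlet', himg _ hlet2] at e'
      rw [e', Nat.beq_refl] at hne
      exact Bool.noConfusion hne)
  exact ⟨_, inferInstance, inferInstance, _, hstem, hker⟩

end Data

end CfsgLib.GraphMult.Signed
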