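import Cfsg.Agent.Schur.PermCert
import Cfsg.Agent.GraphPerm.Search
import Cfsg.Agent.GraphMult.Signed

/-!
# Subgroups of the symmetry group of a graph as based groups

The letters are tables of members; the base is a set of points distinguishing all points by
adjacency, so that symmetries agreeing on it are equal.
-/

set_option autoImplicit false

namespace CfsgLib.GraphMult

open CfsgLib.GraphPerm
open CfsgLib.Schur.PermCert (Based)
open Equiv (Perm)

variable {n : ℕ}

/-- The table of a letter; other letters do nothing. -/
def tabOf (L : List ℕ) (x i : ℕ) : ℕ :=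
  bif Nat.blt x L.length then tget (L.getD x 0) i else i

/-- A group of graph symmetries with the given letters and base. -/
theorem exists_based {R : ℕ} {B : List ℕ} (hB : distinguishing n R B = true)
    {K : Subgroup (Perm (Fin n))} (hK : K ≤ autR n R) {L : List ℕ}
    (hL : ∀ t ∈ L, InTab K t) :
    ∃ P : Based K, P.N = n ∧ P.tab = tabOf L ∧ P.base = B := by
  classical
  have hsel : ∀ x, ∃ σ : K, ∀ i : Fin n, ((σ : Perm (Fin n)) i).val = tabOf L x i.val := by
    intro x
    by_cases hx : x < L.length
    · obtain ⟨σ, hσ, r⟩ := hL (L.getD x 0) (by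
        rw [List.getD_eq_getElem _ _ hx]; exact List.getElem_mem hx)
      refine ⟨⟨σ, hσ⟩, fun i => ?_⟩
      rw [tabOf, show Nat.blt x L.length = true from Nat.ble_eq_true_of_le hx, cond_true]
      exact r i
    · refine ⟨1, fun i => ?_⟩
      rw [tabOf, show Nat.blt x L.length = false from Bool.eq_false_iff.2 fun h =>
        hx (Nat.le_of_ble_eq_true h), cond_false]
      rfl
  choose s hs using hsel
  have hBlt : ∀ b ∈ B, b < n := by
    simp only [distinguishing, Bool.and_eq_true, List.all_eq_true, decide_eq_true_eq] at hB
    exact hB.1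
  refine ⟨{
    N := n
    gen := fun x => (s x)⁻¹
    tab := tabOf L
    base := B
    img := fun a i => if h : i < n then (((a : K) : Perm (Fin n))⁻¹ ⟨i, h⟩).val else i
    img_one := fun i hi => by simp [hi]
    img_mul := fun a b i hi => by
      have h1 : (((a : K) : Perm (Fin n))⁻¹ ⟨i, hi⟩).val < n := Fin.isLt _
      simp only [dif_pos hi, dif_pos h1, Subgroup.coe_mul, mul_inv_rev, Equiv.Perm.mul_apply,
        Fin.eta]
    img_lt := fun a i hi => by rw [dif_pos hi]; exact Fin.isLt _
    img_gen := fun x i hi => by
      rw [dif_pos hi, Subgroup.coe_inv, inv_inv]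
      exact hs x ⟨i, hi⟩
    base_lt := hBlt
    base_ext := fun a b h => by
      apply Subtype.ext
      have key : ((a : Perm (Fin n)))⁻¹ = ((b : Perm (Fin n)))⁻¹ := by
        refine eq_of_agree_on hB (inv_mem (hK a.2)) (inv_mem (hK b.2)) fun x hx => ?_
        have h1 := h x.val hx
        simp only [dif_pos x.isLt, Fin.eta] at h1
        exact Fin.ext h1
      exact inv_injective key }, rfl, rfl, rfl⟩

/-- One step, by primitive operations. -/
def stepFast (n : ℕ) (L : List ℕ) : SStep → Bool
  | (i, some j, T) => decide (i < L.length) && decide (j < L.length) &&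
      Signed.strict (L.getD i 0) fun A => Signed.strict (L.getD j 0) fun B =>
        forBelow n fun x => Signed.strict x fun x =>
          Nat.beq (Signed.tgetP T x) (Signed.tgetP A (Signed.tgetP B x))
  | (i, none, T) => decide (i < L.length) && Signed.strict (L.getD i 0) fun A =>
      forBelow n fun x => Signed.strict x fun x =>
        Nat.blt (Signed.tgetP T x) n && Nat.beq (Signed.tgetP A (Signed.tgetP T x)) x

/-- A program, by primitive operations. -/
def slpFast (n : ℕ) : List ℕ → List SStep → Bool
  | _, [] => true
  | L, s :: rest => stepFast n L s && slpFast n (L ++ [s.2.2]) rest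

theorem slpOK_of_fast (n : ℕ) : ∀ (steps : List SStep) (L : List ℕ), slpFast n L steps = true →
    slpOK n L steps = true
  | [], _, _ => rfl
  | (i, o, T) :: rest, L, h => by
    simp only [slpFast, Bool.and_eq_true] at h
    simp only [slpOK, Bool.and_eq_true]
    refine ⟨?_, slpOK_of_fast n rest _ h.2⟩
    have h1 := h.1
    cases o with
    | some j =>
      simp only [stepFast, stepOK, Signed.strict_eq, Bool.and_eq_true, forBelow_iff, beq_iff_eq]
        at h1 ⊢
      exact ⟨h1.1, fun x hx => Nat.eq_of_beq_eq_true (h1.2 x hx)⟩
    | none =>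
      simp only [stepFast, stepOK, Signed.strict_eq, Bool.and_eq_true, forBelow_iff, beq_iff_eq,
        decide_eq_true_eq] at h1 ⊢
      exact ⟨h1.1, fun x hx =>
        ⟨Nat.le_of_ble_eq_true (h1.2 x hx).1, Nat.eq_of_beq_eq_true (h1.2 x hx).2⟩⟩

/-- A program is checked in two parts. -/
theorem slpFast_append (n : ℕ) : ∀ (s t : List SStep) (L : List ℕ), slpFast n L s = true →
    slpFast n (slpTabs L s) t = true → slpFast n L (s ++ t) = true
  | [], t, L, _, h => by simpa [slpTabs] using h
  | e :: s, t, L, h, h' => by
    simp only [slpFast, Bool.and_eq_true] at h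
    simp only [List.cons_append, slpFast, Bool.and_eq_true]
    exact ⟨h.1, slpFast_append n s t _ h.2 (by simpa [slpTabs] using h')⟩

/-- A program is checked in three parts. -/
theorem slpOK_of_parts (n : ℕ) (L : List ℕ) (steps : List SStep) (a b : ℕ)
    (h1 : slpFast n L (steps.take a) = true)
    (h2 : slpFast n (slpTabs L (steps.take a)) ((steps.drop a).take b) = true)
    (h3 : slpFast n (slpTabs (slpTabs L (steps.take a)) ((steps.drop a).take b))
      ((steps.drop a).drop b) = true) : slpOK n L steps = true := by
  refine slpOK_of_fast n _ _ ?_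
  rw [← List.take_append_drop a steps]
  refine slpFast_append n _ _ _ h1 ?_
  rw [← List.take_append_drop b (steps.drop a)]
  exact slpFast_append n _ _ _ h2 h3

/-- All checks that tables lie in a subgroup. -/
theorem inTab_of_slp {K : Subgroup (Perm (Fin n))} {gens : List ℕ} (hg : ∀ t ∈ gens, InTab K t)
    {steps : List SStep} (hs : slpOK n gens steps = true) {L : List ℕ}
    (hL : L.all (slpTabs gens steps).contains = true) : ∀ t ∈ L, InTab K t := fun t ht =>
  inTab_slp steps gens hg hs t (List.contains_iff_mem.1 (List.all_eq_true.1 hL t ht))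

end CfsgLib.GraphMult
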