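import Cfsg.Agent.Schur.PermCert
import Cfsg.Agent.Schur.Basic
import Cfsg.Agent.MTwelveCover.Bound
import Cfsg.Agent.GraphPerm.Table
import Cfsg.Prelude.Def_KGroupFacts

/-!
# A cyclic multiplier of prime order from span certificates on based groups
-/

set_option autoImplicit false
set_option linter.style.haveILetI false

namespace CfsgLib.GraphMult

open CfsgLib.Schur CfsgLib.Schur.Pc CfsgLib.MTwelveCover
open CfsgLib.Schur.PermCert (Based)

/-- The key of a word from the images of a few points. -/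
def keyOf (tab : ℕ → ℕ → ℕ) (pts w : List ℕ) : ℕ :=
  pts.foldl (fun acc b => acc * 512 + Based.walkTab tab w b) 0

/-- All checks of a span certificate on tables. -/
def spanBasedOK (C : Cert) (S : Span) (k : ℕ) (W gs : List (List ℕ)) (pts : List ℕ)
    (tab : ℕ → ℕ → ℕ) (N : ℕ) (base : List ℕ) : Bool :=
  spanOK C S k &&
    C.rules.all (fun l => Based.same tab base (Based.expand W l.1) (Based.expand W l.2)) &&
    ((List.range C.fus.length).all fun f => (List.range C.fusW).all fun s =>
      Based.same tab base (gs.getD f [] ++ Based.expand W ((C.fus.getD f ([], [])).1.getD s []))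
        (Based.expand W ((C.fus.getD f ([], [])).2.getD s []) ++ gs.getD f [])) &&
    pts.all (fun b => Nat.blt b N) &&
    GraphPerm.noDup ((normalWords C.p C.n 0).map fun w => keyOf tab pts (Based.expand W w))

/-- One row of the integral check. -/
def spanRow (C : Cert) (S : Span) (r : ℕ) : Bool :=
  ((List.range C.unknowns).all fun i =>
    (if r = i then 1 else 0) == S.alpha.getD r 0 * S.tgt.getD i 0 +
      ((List.range C.n).map fun j => (S.beta.getD r []).getD j 0 * (S.sec.getD j []).getD i 0).sum +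
      comb C.eqs (S.combo.getD r []) i) &&
  (List.range C.n).all fun j =>
    (S.D : ℤ) * (S.beta.getD r []).getD j 0 ==
      ((List.range C.n).map fun l => excess (C.rules.getD r ([], [])) l * (S.Q.getD l []).getD j 0).sum

/-- The integral check, without the rows and the equations. -/
def spanHead (C : Cert) (S : Span) (k : ℕ) : Bool :=
  shaped C.p C.n C.rules &&
    C.eqs.all (fun e => (e.1 ++ e.2).all fun a => decide (a < C.unknowns)) &&
    C.rules.all (fun l => (l.1 ++ l.2).all fun a => decide (a < C.n)) && decide (0 < S.D) &&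
    (List.range C.unknowns).all (fun i => (k : ℤ) * S.tgt.getD i 0 == comb C.eqs S.sq i)

/-- The checks on tables. -/
def tableOK (C : Cert) (W gs : List (List ℕ)) (tab : ℕ → ℕ → ℕ) (N : ℕ) (base : List ℕ)
    (pts : List ℕ) : Bool :=
  C.rules.all (fun l => Based.same tab base (Based.expand W l.1) (Based.expand W l.2)) &&
    ((List.range C.fus.length).all fun f => (List.range C.fusW).all fun s =>
      Based.same tab base (gs.getD f [] ++ Based.expand W ((C.fus.getD f ([], [])).1.getD s []))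
        (Based.expand W ((C.fus.getD f ([], [])).2.getD s []) ++ gs.getD f [])) &&
    pts.all (fun b => Nat.blt b N)

/-- Distinctness with a mask of the values seen. -/
def maskNodup : List ℕ → ℕ → Bool
  | [], _ => true
  | a :: l, acc => !Nat.testBit acc a && maskNodup l (Nat.lor acc (Nat.shiftLeft 1 a))

theorem maskNodup_sound : ∀ (l : List ℕ) (acc : ℕ), maskNodup l acc = true →
    l.Nodup ∧ ∀ a ∈ l, acc.testBit a = false
  | [], _, _ => by simp
  | a :: l, acc, h => by
    simp only [maskNodup, Bool.and_eq_true, Bool.not_eq_true'] at h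
    obtain ⟨h1, h2⟩ := maskNodup_sound l _ h.2
    have h3 : ∀ b ∈ l, acc.testBit b = false ∧ b ≠ a := by
      intro b hb
      have h4 := h2 b hb
      rw [show Nat.lor acc (Nat.shiftLeft 1 a) = acc ||| 1 <<< a from rfl, Nat.testBit_or,
        Bool.or_eq_false_iff, Nat.shiftLeft_eq, Nat.one_mul] at h4
      refine ⟨h4.1, fun e => ?_⟩
      rw [e, Nat.testBit_two_pow_self] at h4
      simp at h4
    refine ⟨List.nodup_cons.2 ⟨fun ha => (h3 a ha).2 rfl, h1⟩, ?_⟩
    intro b hb
    rcases List.mem_cons.1 hb with rfl | hb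
    exacts [h.1, (h3 b hb).1]

theorem noDup_of_nodup : ∀ {l : List ℕ}, l.Nodup → GraphPerm.noDup l = true
  | [], _ => rfl
  | a :: l, h => by
    obtain ⟨h1, h2⟩ := List.nodup_cons.1 h
    simp [GraphPerm.noDup, h1, noDup_of_nodup h2]

/-- The keys are distinct when their residues are. -/
theorem noDup_of_residues {l : List ℕ} (md : ℕ) (h : maskNodup (l.map (· % md)) 0 = true) :
    GraphPerm.noDup l = true :=
  noDup_of_nodup (List.Nodup.of_map _ (maskNodup_sound _ _ h).1)

/-- The whole check from its parts. -/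
theorem spanBasedOK_of {C : Cert} {S : Span} {k : ℕ} {W gs : List (List ℕ)} {pts : List ℕ}
    {tab : ℕ → ℕ → ℕ} {N : ℕ} {base : List ℕ} (hh : spanHead C S k = true)
    (heqs : (C.equations == C.eqs) = true) (m : ℕ)
    (hlo : ((List.range C.rules.length).take m).all (spanRow C S) = true)
    (hhi : ((List.range C.rules.length).drop m).all (spanRow C S) = true)
    (ht : tableOK C W gs tab N base pts = true)
    (hk : GraphPerm.noDup ((normalWords C.p C.n 0).map fun w =>
      keyOf tab pts (Based.expand W w)) = true) :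
    spanBasedOK C S k W gs pts tab N base = true := by
  have hrows : (List.range C.rules.length).all (spanRow C S) = true := by
    rw [← List.take_append_drop m (List.range C.rules.length), List.all_append, hlo, hhi]; rfl
  simp only [spanHead, spanRow, tableOK, spanBasedOK, spanOK, Bool.and_eq_true] at hh hrows ht ⊢
  exact ⟨⟨⟨⟨⟨⟨⟨⟨⟨⟨hh.1.1.1.1, heqs⟩, hh.1.1.1.2⟩, hh.1.1.2⟩, hh.1.2⟩, hh.2⟩, hrows⟩, ht.1.1⟩, ht.1.2⟩, ht.2⟩, hk⟩

variable {G : Type} [Group G] [Finite G]

/-- A kernel raised to the index of the subgroup lies in a cyclic group killed by `k`. -/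
theorem ker_pow_mem_of_based (B : Based G) (C : Cert) (S : Span) (k : ℕ) (W gs : List (List ℕ))
    (pts : List ℕ) (hok : spanBasedOK C S k W gs pts B.tab B.N B.base = true) (hp : C.p.Prime)
    {m : ℕ} (hm : Nat.card G = C.p ^ C.n * m) {Γ : Type} [Group Γ] [Finite Γ] (σ : Γ →* G)
    (hσ : Cfsg.IsStemExtension σ) :
    ∃ V ∈ σ.ker, V ^ k = 1 ∧ ∀ z ∈ σ.ker, z ^ m ∈ Subgroup.zpowers V := by
  simp only [spanBasedOK, Bool.and_eq_true, List.all_eq_true, List.mem_range] at hok
  obtain ⟨⟨⟨⟨hspan, hrules⟩, hfus⟩, hpts⟩, hnodup⟩ := hok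
  set x := B.elem W with hx
  have hr : ∀ q ∈ C.rules, ev x q.1 = ev x q.2 := fun q hq => B.rel_of_same (hrules q hq)
  have hf : ∀ F ∈ C.fus, ∃ g : G, ∀ s < C.fusW,
      g * ev x (F.1.getD s []) * g⁻¹ = ev x (F.2.getD s []) := by
    intro F hF
    obtain ⟨f, hf, rfl⟩ := List.getElem_of_mem hF
    refine ⟨ev B.gen (gs.getD f []), fun s hs => ?_⟩
    rw [mul_inv_eq_iff_eq_mul, hx, B.ev_elem, B.ev_elem, ← Pc.ev_append, ← Pc.ev_append]
    have := B.ev_eq_of_same (hfus f hf s hs)
    rwa [List.getD_eq_getElem _ _ hf] at this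
  have hcard : C.p ^ C.n ≤ Nat.card (tailSubgroup x C.n 0) := by
    refine Pc.le_card_of_nodup (fun g : G => pts.foldl (fun acc b => acc * 512 + B.img g b) 0)
      C.p C.n x ?_
    have key : ∀ w, pts.foldl (fun acc b => acc * 512 + B.img (ev x w) b) 0 =
        keyOf B.tab pts (Based.expand W w) := by
      intro w
      have aux : ∀ (L : List ℕ), (∀ b ∈ L, Nat.blt b B.N = true) → ∀ acc,
          L.foldl (fun acc b => acc * 512 + B.img (ev x w) b) acc =
            L.foldl (fun acc b => acc * 512 + Based.walkTab B.tab (Based.expand W w) b) acc := by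
        intro L
        induction L with
        | nil => intro _ acc; rfl
        | cons b L ih =>
          intro hL acc
          rw [List.foldl_cons, List.foldl_cons, ih (fun c hc => hL c (List.mem_cons_of_mem _ hc)),
            hx, B.ev_elem, B.img_ev _ _ (Nat.le_of_ble_eq_true (hL b List.mem_cons_self))]
      exact aux pts hpts 0
    simp only [key]
    exact GraphPerm.nodup_of_noDup hnodup
  obtain ⟨V, hV, hk, hz⟩ := ker_pow_mem_zpowers C S k σ hσ hspan x hr hf hcard
  refine ⟨V, hV, hk, fun z hzk => ?_⟩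
  have hshape : shaped C.p C.n C.rules = true := by
    simp only [spanOK, Bool.and_eq_true] at hspan
    exact hspan.1.1.1.1.1.1
  have hS : Nat.card (tailSubgroup x C.n 0) = C.p ^ C.n :=
    le_antisymm (Pc.card_tailSubgroup_le x hshape hr C.n 0 (Nat.zero_add _)) hcard
  have hidx := Subgroup.index_mul_card (tailSubgroup x C.n 0)
  rw [hS, hm, Nat.mul_comm] at hidx
  rw [← Nat.eq_of_mul_eq_mul_left (pow_pos hp.pos _) hidx]
  exact hz z hzk

/-- With `k = 1` the prime does not divide the kernel. -/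
theorem not_dvd_of_span (B : Based G) (C : Cert) (S : Span) (W gs : List (List ℕ)) (pts : List ℕ)
    (hok : spanBasedOK C S 1 W gs pts B.tab B.N B.base = true) (hp : C.p.Prime) {m : ℕ}
    (hm : Nat.card G = C.p ^ C.n * m) (hmp : ¬ C.p ∣ m) {Γ : Type} [Group Γ] [Finite Γ]
    (σ : Γ →* G) (hσ : Cfsg.IsStemExtension σ) : ¬ C.p ∣ Nat.card σ.ker := by
  intro hd
  haveI : Fact C.p.Prime := ⟨hp⟩
  obtain ⟨V, -, h1, hz⟩ := ker_pow_mem_of_based B C S 1 W gs pts hok hp hm σ hσ
  rw [pow_one] at h1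
  obtain ⟨y, hy⟩ := exists_prime_orderOf_dvd_card' (G := σ.ker) C.p hd
  have h2 := hz y.1 y.2
  rw [h1, Subgroup.zpowers_one_eq_bot, Subgroup.mem_bot] at h2
  have h3 : orderOf y ∣ m := orderOf_dvd_of_pow_eq_one (Subtype.ext h2)
  exact hmp (hy ▸ h3)

/-- A prime dividing the order once does not divide the kernel. -/
theorem not_dvd_of_prime (B : Based G) (p : ℕ) (w : List ℕ) (v : ℕ)
    (hok : PermCert.primeOk p w v B.tab B.N B.base = true) (hp : p.Prime) {m : ℕ}
    (hm : Nat.card G = p * m) (hmp : ¬ p ∣ m) {Γ : Type} [Group Γ] [Finite Γ]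
    (σ : Γ →* G) (hσ : Cfsg.IsStemExtension σ) : ¬ p ∣ Nat.card σ.ker := by
  haveI : Fact p.Prime := ⟨hp⟩
  exact not_dvd_card_ker_of_exponent_p (fun Δ _ _ τ hτ hexp =>
    PermCert.prime_ker_eq_bot B τ hτ p w v hok hp hm hmp hexp) σ hσ

/-- The multiplier is cyclic of prime order `k`. -/
theorem hasCyclicSchurMultiplier_of_bounds {k m : ℕ} (hk : k.Prime) (hmk : ¬ k ∣ m)
    {E : Type} [Group E] [Finite E] (τ : E →* G) (hτ : Cfsg.IsStemExtension τ)
    (hτc : Nat.card τ.ker = k)
    (hbound : ∀ (Γ : Type) [Group Γ] [Finite Γ] (σ : Γ →* G), Cfsg.IsStemExtension σ →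
      ∃ V ∈ σ.ker, V ^ k = 1 ∧ ∀ z ∈ σ.ker, z ^ m ∈ Subgroup.zpowers V)
    (hother : ∀ (q : ℕ), q.Prime → q ≠ k → q ∣ Nat.card G →
      ∀ (Γ : Type) [Group Γ] [Finite Γ] (σ : Γ →* G), Cfsg.IsStemExtension σ →
        ¬ q ∣ Nat.card σ.ker) :
    Cfsg.HasCyclicSchurMultiplier G k := by
  haveI : Fact k.Prime := ⟨hk⟩
  refine ⟨⟨E, inferInstance, inferInstance, τ, hτ,
    ⟨mulEquivOfPrimeCardEq (p := k) hτc (by simp)⟩⟩, ?_⟩
  intro Γ _ _ σ hσ
  obtain ⟨V, hV, hVk, hVz⟩ := hbound Γ σ hσ
  have hall : ∀ z ∈ σ.ker, z ∈ Subgroup.zpowers V := by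
    intro z hz
    have hcop : m.Coprime (orderOf z) := by
      by_contra hne
      obtain ⟨q, hq, hqg⟩ := Nat.exists_prime_and_dvd hne
      haveI : Fact q.Prime := ⟨hq⟩
      have hqm : q ∣ m := hqg.trans (Nat.gcd_dvd_left _ _)
      have hd : q ∣ Nat.card σ.ker := by
        refine (hqg.trans (Nat.gcd_dvd_right _ _)).trans ?_
        rw [show orderOf z = orderOf (⟨z, hz⟩ : σ.ker) from Subgroup.orderOf_coe ⟨z, hz⟩]
        exact orderOf_dvd_natCard _
      exact hother q hq (fun e => hmk (e ▸ hqm)) (prime_dvd_card_of_dvd_card_ker σ hσ hd) Γ σ hσ hd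
    obtain ⟨j, hj⟩ := exists_pow_eq_self_of_coprime hcop
    have := Subgroup.pow_mem _ (hVz z hz) j
    rwa [hj] at this
  have hVk' : (⟨V, hV⟩ : σ.ker) ^ k = 1 := Subtype.ext hVk
  let f : ZMod k →+ Additive σ.ker := ZMod.lift k
    ⟨zmultiplesHom (Additive σ.ker) (Additive.ofMul ⟨V, hV⟩), by
      rw [zmultiplesHom_apply, ← ofMul_zpow, zpow_natCast, hVk', ofMul_one]⟩
  refine ⟨AddMonoidHom.toMultiplicativeLeft f, fun z => ?_⟩
  obtain ⟨j, hj⟩ := Subgroup.mem_zpowers_iff.1 (hall z.1 z.2)
  refine ⟨Multiplicative.ofAdd (j : ZMod k), ?_⟩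
  change Additive.toMul (f (j : ZMod k)) = z
  rw [ZMod.lift_coe]
  simp only [zmultiplesHom_apply, ← ofMul_zpow]
  exact Subtype.ext (by simpa using hj)

end CfsgLib.GraphMult
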