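import Cfsg.Agent.GraphMult.Signed
import Mathlib.Data.ZMod.Basic
import Mathlib.Logic.Equiv.Prod
import Mathlib.Algebra.BigOperators.Group.Finset.Basic

/-!
# A triple cover by corestriction from a point stabiliser

The fibre over a point `u` is a copy of `F` points in blocks of three; block `b` over `u` stands
for the image of the point `L₀ b` under a chosen symmetry carrying `0` to `u`.  A lift of a
symmetry `g` carries the fibre over `u` to the one over `g u` by a permutation which commutes with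
the shift in the blocks and preserves a connected graph.  Lifts of the identity shift every fibre
by a residue; dividing by those of residue sum zero leaves a central extension by three elements.
-/

set_option autoImplicit false
set_option linter.style.haveILetI false

namespace CfsgLib.GraphMult.Corestr

open CfsgLib.GraphPerm
open CfsgLib.GraphMult.Signed (get2 strict strict_eq maskOf)
open Equiv (Perm)
open scoped commutatorElement

/-- The shift by `c` in the blocks. -/
def shiftN (a c : ℕ) : ℕ := 3 * (a / 3) + (a % 3 + c) % 3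

theorem shiftN_div (a c : ℕ) : shiftN a c / 3 = a / 3 := by rw [shiftN]; omega

theorem shiftN_mod (a c : ℕ) : shiftN a c % 3 = (a % 3 + c) % 3 := by rw [shiftN]; omega

theorem shiftN_shiftN (a b c : ℕ) : shiftN (shiftN a b) c = shiftN a (b + c) := by
  simp only [shiftN]; omega

theorem shiftN_three (a c : ℕ) (h : 3 ∣ c) : shiftN a c = a := by
  obtain ⟨d, rfl⟩ := h; rw [shiftN]; omega

/-- The data. -/
structure Data where
  n : ℕ
  R : ℕ
  B : List ℕ
  M : ℕ
  L₀ : List ℕ
  nb : List (List (List ℕ))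
  tree : List (List (ℕ × ℕ × ℕ × ℕ))
  hs : List ℕ
  phis : List ℕ
  phiInvs : List ℕ
  trans : List (List ℕ)

namespace Data

variable (D : Data)

/-- The number of points in a fibre. -/
def F : ℕ := 3 * D.M

/-- The point behind a fibre point at `0`. -/
def base (a : ℕ) : ℕ := D.L₀.getD (a / 3) 0

/-- Adjacency in a fibre. -/
def adj (a b : ℕ) : Bool := (maskOf (get2 D.nb [] a)).testBit b

/-- The checks on the fibre. -/
def fibreOK : Bool :=
  distinguishing D.n D.R D.B && noDup D.L₀ && Nat.beq D.L₀.length D.M &&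
    D.L₀.all (fun x => Nat.blt x D.n) &&
    forBelow D.M fun v => strict v fun v =>
      v == 0 ||
        let e := get2 D.tree (0, 0, 0, 0) v
        Nat.blt e.1 D.M && Nat.blt e.2.1 D.F && Nat.blt e.2.2.1 D.F &&
          Nat.beq (e.2.1 / 3) e.1 && Nat.beq (e.2.2.1 / 3) v &&
          Nat.blt (get2 D.tree (0, 0, 0, 0) e.1).2.2.2 e.2.2.2 &&
          ((forBelow 3 fun i => forBelow 3 fun j =>
              D.adj (shiftN e.2.1 i) (shiftN e.2.2.1 j) == (i == j)) ||
            (forBelow 3 fun i => forBelow 3 fun j =>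
              D.adj (shiftN e.2.2.1 i) (shiftN e.2.1 j) == (i == j)))

/-- The checks on a letter. -/
def letterOK (h f f' : ℕ) : Bool :=
  forBelow D.F fun a => strict a fun a => strict (tget f a) fun b =>
    Nat.blt b D.F && Nat.beq (tget f' b) a && Nat.beq (tget f (shiftN a 1)) (shiftN b 1) &&
      Nat.beq (D.base b) (tget h (D.base a)) &&
      strict (maskOf (get2 D.nb [] b)) fun M =>
        (get2 D.nb [] a).all fun z => Nat.beq (Signed.bitN M (tget f z)) 1

/-- The checks on all letters. -/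
def lettersOK : Bool :=
  Nat.beq D.phis.length D.hs.length &&
    forBelow D.hs.length fun i => D.letterOK (D.hs.getD i 0) (D.phis.getD i 0) (D.phiInvs.getD i 0)

/-- The chosen symmetry carrying `0` to `u`, as a table. -/
def ttab (u : ℕ) : ℕ := get2 D.trans 0 u

/-- The checks on the words of the lift of a table. -/
def wordsOK (t : ℕ) (ws : List (List (List ℕ))) : Bool :=
  forBelow D.n fun u => strict u fun u => strict (D.ttab (tget t u)) fun T =>
    strict (D.ttab u) fun U =>
      (get2 ws [] u).all (fun a => Nat.blt a D.hs.length) &&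
        D.B.all fun x => Nat.beq (tget T (wImg D.hs (get2 ws [] u) x)) (tget t (tget U x))

/-- A fibre permutation over a symmetry fixing `0`. -/
def LocGood (h : Perm (Fin D.n)) (φ : Perm (Fin D.F)) : Prop :=
  (∀ (a : Fin D.F) (hx : D.base a.val < D.n), D.base (φ a).val = (h ⟨D.base a.val, hx⟩).val) ∧
    (∀ (a : Fin D.F) (hs : shiftN a.val 1 < D.F),
      (φ ⟨shiftN a.val 1, hs⟩).val = shiftN (φ a).val 1) ∧
    ∀ a b : Fin D.F, D.adj a.val b.val = true → D.adj (φ a).val (φ b).val = true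

theorem locGood_one : D.LocGood 1 1 := ⟨fun _ _ => rfl, fun _ _ => rfl, fun _ _ h => h⟩

theorem locGood_mul {g h : Perm (Fin D.n)} {φ ψ : Perm (Fin D.F)} (hg : D.LocGood g φ)
    (hh : D.LocGood h ψ) : D.LocGood (g * h) (φ * ψ) := by
  obtain ⟨g1, g2, g3⟩ := hg
  obtain ⟨h1, h2, h3⟩ := hh
  refine ⟨fun a hx => ?_, fun a hs => ?_, fun a b e => ?_⟩
  · have e1 := h1 a hx
    have hlt : D.base (ψ a).val < D.n := e1 ▸ (h ⟨_, hx⟩).isLt
    rw [Equiv.Perm.mul_apply, Equiv.Perm.mul_apply, g1 _ hlt]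
    exact congrArg (fun z => (g z).val) (Fin.ext e1)
  · have e1 := h2 a hs
    have hlt : shiftN (ψ a).val 1 < D.F := e1 ▸ (ψ ⟨_, hs⟩).isLt
    rw [Equiv.Perm.mul_apply, Equiv.Perm.mul_apply, ← g2 _ hlt]
    exact congrArg (fun z => (φ z).val) (Fin.ext e1)
  · rw [Equiv.Perm.mul_apply, Equiv.Perm.mul_apply]; exact g3 _ _ (h3 _ _ e)

theorem shiftN_lt {a : ℕ} (h : a < D.F) (c : ℕ) : shiftN a c < D.F := by
  simp only [Data.F, shiftN] at h ⊢; omega

theorem adj_iff {x y : ℕ} : D.adj x y = true ↔ y ∈ get2 D.nb [] x :=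
  (Signed.Data.adj_iff ⟨0, 0, [], D.nb, []⟩ :)

/-- The shift of all fibres by residues. -/
def shiftAll (c : Fin D.n → ZMod 3) : Perm (Fin D.n × Fin D.F) where
  toFun x := (x.1, ⟨shiftN x.2.val (c x.1).val, D.shiftN_lt x.2.isLt _⟩)
  invFun x := (x.1, ⟨shiftN x.2.val (-c x.1).val, D.shiftN_lt x.2.isLt _⟩)
  left_inv x := Prod.ext rfl (Fin.ext (by
    show shiftN (shiftN _ _) (-c x.1).val = _
    rw [shiftN_shiftN, shiftN_three _ _
      ((ZMod.natCast_eq_zero_iff _ _).1 (by simp))]))
  right_inv x := Prod.ext rfl (Fin.ext (by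
    show shiftN (shiftN _ _) (c x.1).val = _
    rw [shiftN_shiftN, shiftN_three _ _
      ((ZMod.natCast_eq_zero_iff _ _).1 (by simp))]))

theorem shiftAll_add (c d : Fin D.n → ZMod 3) :
    D.shiftAll c * D.shiftAll d = D.shiftAll (c + d) := by
  refine Equiv.ext fun x => Prod.ext rfl (Fin.ext ?_)
  show shiftN (shiftN _ (d x.1).val) (c x.1).val = shiftN _ _
  rw [shiftN_shiftN]
  have : ((d x.1).val + (c x.1).val) % 3 = ((c + d) x.1).val := by
    rw [Pi.add_apply, ZMod.val_add, Nat.add_comm]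
  simp only [shiftN]
  omega

variable (t : Fin D.n → Perm (Fin D.n))

/-- A lift of `g`. -/
def Good (g : Perm (Fin D.n)) (π : Perm (Fin D.n × Fin D.F)) : Prop :=
  ∀ u, ∃ φ, D.LocGood ((t (g u))⁻¹ * g * t u) φ ∧ ∀ a, π (u, a) = (g u, φ a)

theorem good_one : D.Good t 1 1 := fun u =>
  ⟨1, by simpa using D.locGood_one, fun _ => rfl⟩

theorem good_mul {g h : Perm (Fin D.n)} {π σ : Perm (Fin D.n × Fin D.F)} (hg : D.Good t g π)
    (hh : D.Good t h σ) : D.Good t (g * h) (π * σ) := by
  intro u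
  obtain ⟨φ, h1, h2⟩ := hh u
  obtain ⟨ψ, g1, g2⟩ := hg (h u)
  refine ⟨ψ * φ, ?_, fun a => ?_⟩
  · have := D.locGood_mul g1 h1
    rwa [show (t (g (h u)))⁻¹ * g * t (h u) * ((t (h u))⁻¹ * h * t u) =
      (t ((g * h) u))⁻¹ * (g * h) * t u by rw [Equiv.Perm.mul_apply]; group] at this
  · rw [Equiv.Perm.mul_apply, h2, g2]; rfl

variable (K : Subgroup (Perm (Fin D.n)))

/-- All lifts of the members of a subgroup. -/
def lifts : Subgroup (↥K × Perm (Fin D.n × Fin D.F)) where
  carrier := {x | D.Good t (x.1 : Perm (Fin D.n)) x.2}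
  one_mem' := D.good_one t
  mul_mem' ha hb := D.good_mul t ha hb
  inv_mem' := by
    intro x hx
    have hpow : ∀ i : ℕ, D.Good t ((x ^ i).1 : Perm (Fin D.n)) (x ^ i).2 := by
      intro i
      induction i with
      | zero => exact D.good_one t
      | succ i ih => rw [pow_succ]; exact D.good_mul t ih hx
    obtain ⟨i, hi⟩ : ∃ i : ℕ, x ^ i = x⁻¹ := by
      have : x⁻¹ ∈ Subgroup.zpowers x := inv_mem (Subgroup.mem_zpowers x)
      rw [← mem_powers_iff_mem_zpowers, Submonoid.mem_powers_iff] at this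
      exact this
    exact hi ▸ hpow i

/-- The projection. -/
def proj : ↥(D.lifts t K) →* ↥K := (MonoidHom.fst _ _).comp (D.lifts t K).subtype

/-- The residue by which a lift of the identity shifts the fibre over `u`. -/
def resid (hF : 0 < D.F) (y : ↥(D.lifts t K)) (u : Fin D.n) : ZMod 3 :=
  ((y.1.2 (u, ⟨0, hF⟩)).2.val % 3 : ℕ)

/-- The sum of the residues. -/
def total (hF : 0 < D.F) (y : ↥(D.lifts t K)) : ZMod 3 := ∑ u, D.resid t K hF y u

theorem ker_eq_shiftAll (hD : D.fibreOK = true) (hF : 0 < D.F) {y : ↥(D.lifts t K)}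
    (hy : y ∈ (D.proj t K).ker) : y.1.2 = D.shiftAll (D.resid t K hF y) := by
  have hg : (y.1.1 : Perm (Fin D.n)) = 1 := by
    have : y.1.1 = 1 := hy
    rw [this]; rfl
  simp only [fibreOK, strict_eq, Bool.and_eq_true, forBelow_iff, Bool.or_eq_true,
    List.all_eq_true, beq_iff_eq] at hD
  obtain ⟨⟨⟨⟨-, hnd⟩, hlen⟩, hlt⟩, htree⟩ := hD
  have hlen' : D.L₀.length = D.M := Nat.eq_of_beq_eq_true hlen
  refine Equiv.ext fun x => ?_
  obtain ⟨u, a⟩ := x
  obtain ⟨φ, ⟨h1, h2, h3⟩, hφ⟩ := y.2 u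
  rw [hg] at hφ h1
  simp only [Equiv.Perm.one_apply, mul_one, inv_mul_cancel] at hφ h1
  have hblk : ∀ b : Fin D.F, (φ b).val / 3 = b.val / 3 := by
    intro b
    have hb : ∀ z : Fin D.F, z.val / 3 < D.L₀.length := fun z => by
      have := z.isLt; rw [hlen']; simp only [Data.F] at this; omega
    have hx : D.base b.val < D.n := by
      rw [base, List.getD_eq_getElem _ _ (hb b)]
      exact Nat.le_of_ble_eq_true (hlt _ (List.getElem_mem _))
    refine ((nodup_of_noDup hnd).getElem_inj_iff (hi := hb (φ b)) (hj := hb b)).1 ?_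
    rw [← List.getD_eq_getElem _ 0 (hb (φ b)), ← List.getD_eq_getElem _ 0 (hb b)]
    exact h1 b hx
  -- the shift of a point
  let c : Fin D.F → ℕ := fun b => ((φ b).val % 3 + (3 - b.val % 3)) % 3
  have hc : ∀ b, (φ b).val = shiftN b.val (c b) := fun b => by
    have := hblk b; simp only [shiftN, c]; omega
  have hnext : ∀ (b : Fin D.F) (hs : shiftN b.val 1 < D.F), c ⟨shiftN b.val 1, hs⟩ = c b := by
    intro b hs
    have e := h2 b hs
    simp only [c]
    rw [e, shiftN_mod, shiftN_mod]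
    omega
  have hsame : ∀ b d : Fin D.F, b.val / 3 = d.val / 3 → c d = c b := by
    intro b d e
    have key : ∀ k (hk : shiftN b.val k < D.F), c ⟨shiftN b.val k, hk⟩ = c b := by
      intro k
      induction k with
      | zero => intro hk; exact congrArg c (Fin.ext (by simp only [shiftN]; omega))
      | succ k ih =>
        intro hk
        have hk' := D.shiftN_lt b.isLt k
        rw [← ih hk', ← hnext ⟨_, hk'⟩ (D.shiftN_lt hk' 1)]
        exact congrArg c (Fin.ext (shiftN_shiftN _ _ _).symm)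
    rw [← key (d.val % 3 + (3 - b.val % 3)) (D.shiftN_lt b.isLt _)]
    exact congrArg c (Fin.ext (by simp only [shiftN]; omega))
  have hedge : ∀ b d : Fin D.F, (∀ i < 3, ∀ j < 3,
      D.adj (shiftN b.val i) (shiftN d.val j) = (i == j)) → c b = c d := by
    intro b d h
    have h0 : D.adj b.val d.val = true := by
      have := h 0 (by omega) 0 (by omega)
      rwa [shiftN_three _ 0 (dvd_zero 3), shiftN_three _ 0 (dvd_zero 3)] at this
    have := h3 b d h0
    rw [hc, hc, h _ (Nat.mod_lt _ (by omega)) _ (Nat.mod_lt _ (by omega)), beq_iff_eq] at this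
    exact this
  have h0 : (0 : ℕ) / 3 = 0 := Nat.zero_div 3
  have hall : ∀ (dd : ℕ) (v : ℕ), (get2 D.tree (0, 0, 0, 0) v).2.2.2 ≤ dd → ∀ b : Fin D.F,
      b.val / 3 = v → c b = c ⟨0, hF⟩ := by
    intro dd
    induction dd with
    | zero =>
      intro v hv b hb
      have hvm : v < D.M := by have := b.isLt; simp only [Data.F] at this; omega
      rcases htree v hvm with h | h
      · subst h; exact hsame ⟨0, hF⟩ b (h0.trans hb.symm)
      · exfalso
        have := Nat.le_of_ble_eq_true h.1.2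
        omega
    | succ dd ih =>
      intro v hv b hb
      have hvm : v < D.M := by have := b.isLt; simp only [Data.F] at this; omega
      rcases htree v hvm with h | h
      · subst h; exact hsame ⟨0, hF⟩ b (h0.trans hb.symm)
      · obtain ⟨⟨⟨⟨⟨⟨hp, ha⟩, hb'⟩, hpa⟩, hvb⟩, hdep⟩, hadj⟩ := h
        generalize get2 D.tree (0, 0, 0, 0) v = e at hv hp ha hb' hpa hvb hdep hadj
        obtain ⟨pv, a', b', dv⟩ := e
        have ha'' : a' < D.F := Nat.le_of_ble_eq_true ha
        have hb'' : b' < D.F := Nat.le_of_ble_eq_true hb'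
        have hp' := ih pv (by have := Nat.le_of_ble_eq_true hdep; simp only at this hv ⊢; omega)
          ⟨a', ha''⟩ (Nat.eq_of_beq_eq_true hpa)
        rw [← hp', hsame ⟨b', hb''⟩ b ((Nat.eq_of_beq_eq_true hvb).trans hb.symm)]
        rcases hadj with h | h
        · exact (hedge ⟨a', ha''⟩ ⟨b', hb''⟩ h).symm
        · exact hedge ⟨b', hb''⟩ ⟨a', ha''⟩ h
  rw [hφ]
  refine Prod.ext rfl (Fin.ext ?_)
  show (φ a).val = shiftN a.val (D.resid t K hF y u).val
  rw [hc, hall _ _ le_rfl a rfl, resid, hφ]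
  simp only [c, ZMod.val_natCast, Nat.zero_mod, Nat.sub_zero]
  simp only [shiftN]
  omega

theorem resid_shiftAll (hF : 0 < D.F) {y : ↥(D.lifts t K)} {c : Fin D.n → ZMod 3}
    (h : y.1.2 = D.shiftAll c) (u : Fin D.n) : D.resid t K hF y u = c u := by
  rw [resid, h]
  show (((shiftN 0 (c u).val) % 3 : ℕ) : ZMod 3) = c u
  rw [shiftN_mod, Nat.zero_mod, Nat.zero_add, Nat.mod_eq_of_lt (ZMod.val_lt (c u)),
    ZMod.natCast_zmod_val]

theorem total_mul (hD : D.fibreOK = true) (hF : 0 < D.F) {y z : ↥(D.lifts t K)}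
    (hy : y ∈ (D.proj t K).ker) (hz : z ∈ (D.proj t K).ker) :
    D.total t K hF (y * z) = D.total t K hF y + D.total t K hF z := by
  have e : (y * z).1.2 = D.shiftAll (D.resid t K hF y + D.resid t K hF z) := by
    rw [Subgroup.coe_mul, Prod.snd_mul, D.ker_eq_shiftAll t K hD hF hy,
      D.ker_eq_shiftAll t K hD hF hz, shiftAll_add]
  simp only [total, D.resid_shiftAll t K hF e, Pi.add_apply, Finset.sum_add_distrib]

theorem shiftN_mem (hD : D.fibreOK = true) (hF : 0 < D.F) (y : ↥(D.lifts t K))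
    {z : ↥(D.lifts t K)} (hz : z ∈ (D.proj t K).ker) :
    D.total t K hF (y * z * y⁻¹) = D.total t K hF z := by
  have e : (y * z * y⁻¹).1.2 =
      D.shiftAll fun u => D.resid t K hF z ((y.1.1 : Perm (Fin D.n))⁻¹ u) := by
    rw [Subgroup.coe_mul, Subgroup.coe_mul, Subgroup.coe_inv, Prod.snd_mul, Prod.snd_mul,
      Prod.snd_inv, D.ker_eq_shiftAll t K hD hF hz, mul_inv_eq_iff_eq_mul]
    refine Equiv.ext fun x => ?_
    obtain ⟨u, a⟩ := x
    obtain ⟨φ, ⟨-, h2, -⟩, hφ⟩ := y.2 u
    have hk : ∀ (k : ℕ) (hk : shiftN a.val k < D.F),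
        (φ ⟨shiftN a.val k, hk⟩).val = shiftN (φ a).val k := by
      intro k
      induction k with
      | zero =>
        intro hk
        rw [shiftN_three (φ a).val 0 (dvd_zero 3)]
        exact congrArg (fun z => (φ z).val) (Fin.ext (shiftN_three a.val 0 (dvd_zero 3)))
      | succ k ih =>
        intro hk
        have hk' := D.shiftN_lt a.isLt k
        rw [← shiftN_shiftN (φ a).val, ← ih hk', ← h2 ⟨_, hk'⟩ (D.shiftN_lt hk' 1)]
        exact congrArg (fun z => (φ z).val) (Fin.ext (shiftN_shiftN _ _ _).symm)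
    show y.1.2 (u, ⟨shiftN a.val (D.resid t K hF z u).val, D.shiftN_lt a.isLt _⟩) =
      D.shiftAll (fun u => D.resid t K hF z ((y.1.1 : Perm (Fin D.n))⁻¹ u)) (y.1.2 (u, a))
    rw [hφ, hφ]
    refine Prod.ext rfl (Fin.ext ?_)
    show _ = shiftN (φ a).val _
    rw [hk]
    simp
  simp only [total, D.resid_shiftAll t K hF e]
  exact Equiv.sum_comp ((y.1.1 : Perm (Fin D.n))⁻¹) (fun u => D.resid t K hF z u)

/-- The kernel part of residue sum zero. -/
def small (hD : D.fibreOK = true) (hF : 0 < D.F) : Subgroup ↥(D.lifts t K) where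
  carrier := {y | y ∈ (D.proj t K).ker ∧ D.total t K hF y = 0}
  one_mem' := by
    refine ⟨one_mem _, ?_⟩
    have h := D.total_mul t K hD hF (one_mem _) (one_mem (D.proj t K).ker)
    rw [mul_one] at h
    exact left_eq_add.1 h
  mul_mem' {y z} hy hz := ⟨mul_mem hy.1 hz.1, by
    rw [D.total_mul t K hD hF hy.1 hz.1, hy.2, hz.2, add_zero]⟩
  inv_mem' {y} hy := ⟨inv_mem hy.1, by
    have h := D.total_mul t K hD hF hy.1 (inv_mem hy.1)
    have h1 : D.total t K hF (1 : ↥(D.lifts t K)) = 0 := by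
      have h := D.total_mul t K hD hF (one_mem _) (one_mem (D.proj t K).ker)
      rw [mul_one] at h
      exact left_eq_add.1 h
    rw [mul_inv_cancel, h1, hy.2, zero_add] at h
    exact h.symm⟩

/-- A surjective projection with two commuting members of unequal lifts gives a stem extension. -/
theorem exists_stem (hD : D.fibreOK = true) (hF : 0 < D.F)
    (hsurj : Function.Surjective (D.proj t K)) [Finite K] {a b : ↥(D.lifts t K)}
    (hab : Commute (D.proj t K a) (D.proj t K b)) (hne : D.total t K hF ⁅a, b⁆ ≠ 0) :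
    ∃ (E : Type) (_ : Group E) (_ : Finite E) (τ : E →* K),
      Cfsg.IsStemExtension τ ∧ Nat.card τ.ker = 3 := by
  have hker : ⁅a, b⁆ ∈ (D.proj t K).ker := by
    rw [MonoidHom.mem_ker, map_commutatorElement, commutatorElement_eq_one_iff_commute]
    exact hab
  let N := D.small t K hD hF
  haveI hN : N.Normal := ⟨fun z hz g => ⟨(MonoidHom.normal_ker (D.proj t K)).conj_mem _ hz.1 g,
    (D.shiftN_mem t K hD hF g hz.1).trans hz.2⟩⟩
  have hNle : N ≤ (D.proj t K).ker := fun z hz => hz.1
  let τ : ↥(D.lifts t K) ⧸ N →* K := QuotientGroup.lift N (D.proj t K) hNle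
  have hτker : ∀ x ∈ τ.ker, ∃ z ∈ (D.proj t K).ker, QuotientGroup.mk' N z = x := by
    intro x hx
    obtain ⟨z, rfl⟩ := QuotientGroup.mk'_surjective N x
    exact ⟨z, hx, rfl⟩
  -- the residue sum on the kernel
  let f : τ.ker → ZMod 3 := fun x => D.total t K hF (hτker x.1 x.2).choose
  have hf : ∀ (x : τ.ker) (z : ↥(D.lifts t K)), z ∈ (D.proj t K).ker →
      QuotientGroup.mk' N z = x.1 → f x = D.total t K hF z := by
    intro x z hz e
    obtain ⟨hw, ew⟩ := (hτker x.1 x.2).choose_spec
    obtain ⟨q, hq, hqe⟩ := (QuotientGroup.mk'_eq_mk' N).1 (e.trans ew.symm)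
    show D.total t K hF _ = _
    rw [← hqe, D.total_mul t K hD hF hz hq.1, hq.2, add_zero]
  have hfi : Function.Injective f := by
    intro x x' e
    obtain ⟨z, hz, ez⟩ := hτker x.1 x.2
    obtain ⟨z', hz', ez'⟩ := hτker x'.1 x'.2
    rw [hf x z hz ez, hf x' z' hz' ez'] at e
    refine Subtype.ext ?_
    rw [← ez, ← ez']
    refine (QuotientGroup.mk'_eq_mk' N).2 ⟨z⁻¹ * z', ⟨mul_mem (inv_mem hz) hz', ?_⟩,
      mul_inv_cancel_left z z'⟩
    have h := D.total_mul t K hD hF hz (mul_mem (inv_mem hz) hz')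
    rw [mul_inv_cancel_left, ← e] at h
    exact left_eq_add.1 h
  let w : τ.ker := ⟨QuotientGroup.mk' N ⁅a, b⁆, hker⟩
  have hwne : w ≠ 1 := by
    intro e
    have : QuotientGroup.mk' N ⁅a, b⁆ = 1 := congrArg Subtype.val e
    exact hne ((QuotientGroup.eq_one_iff _).1 this).2
  haveI : Fact (Nat.Prime 3) := ⟨Nat.prime_three⟩
  haveI : Finite ↥(D.lifts t K) := inferInstance
  haveI : Finite τ.ker := inferInstance
  have hle : Nat.card τ.ker ≤ 3 := (Nat.card_le_card_of_injective f hfi).trans (Nat.card_zmod 3).le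
  have hord : orderOf w = 3 := by
    have h3 : w ^ 3 = 1 := by
      refine Subtype.ext ?_
      have hp : ⁅a, b⁆ ^ 3 ∈ N := by
        refine ⟨pow_mem hker 3, ?_⟩
        rw [pow_succ, pow_two, D.total_mul t K hD hF (mul_mem hker hker) hker,
          D.total_mul t K hD hF hker hker]
        generalize D.total t K hF ⁅a, b⁆ = s
        revert s; decide
      rw [Subgroup.coe_pow]
      show (QuotientGroup.mk' N ⁅a, b⁆) ^ 3 = 1
      rw [← map_pow]
      exact (QuotientGroup.eq_one_iff _).2 hp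
    exact orderOf_eq_prime h3 hwne
  have hcard : Nat.card τ.ker = 3 :=
    le_antisymm hle (hord ▸ Nat.le_of_dvd Nat.card_pos (orderOf_dvd_natCard w))
  have hgen : ∀ x : τ.ker, x ∈ Subgroup.zpowers w := fun x =>
    mem_zpowers_of_prime_card hcard hwne
  refine ⟨_, inferInstance, inferInstance, τ, ⟨?_, ?_, ?_⟩, hcard⟩
  · intro k
    obtain ⟨y, rfl⟩ := hsurj k
    exact ⟨QuotientGroup.mk' N y, rfl⟩
  · intro x hx
    obtain ⟨z, hz, rfl⟩ := hτker x hx
    rw [Subgroup.mem_center_iff]
    intro g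
    obtain ⟨g, rfl⟩ := QuotientGroup.mk'_surjective N g
    rw [← map_mul, ← map_mul]
    have hz' := (MonoidHom.normal_ker (D.proj t K)).conj_mem _ hz g
    refine ((QuotientGroup.mk'_eq_mk' N).2 ⟨(g * z)⁻¹ * (z * g), ⟨?_, ?_⟩, by group⟩)
    · rw [MonoidHom.mem_ker] at hz ⊢
      simp [hz]
    · have e : (g * z)⁻¹ * (z * g) = z⁻¹ * (g⁻¹ * z * g) := by group
      have hz'' := (MonoidHom.normal_ker (D.proj t K)).conj_mem _ hz g⁻¹
      rw [inv_inv] at hz''
      rw [e, D.total_mul t K hD hF (inv_mem hz) hz'']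
      have h1 := D.shiftN_mem t K hD hF g⁻¹ hz
      rw [inv_inv] at h1
      rw [h1, ← D.total_mul t K hD hF (inv_mem hz) hz, inv_mul_cancel]
      exact ((D.small t K hD hF).one_mem).2
  · intro x hx
    obtain ⟨k, hk⟩ := Subgroup.mem_zpowers_iff.1 (hgen ⟨x, hx⟩)
    have e : (QuotientGroup.mk' N ⁅a, b⁆) ^ k = x := congrArg Subtype.val hk
    rw [← e, map_commutatorElement]
    exact Subgroup.zpow_mem _ (Subgroup.commutator_mem_commutator (Subgroup.mem_top _)
      (Subgroup.mem_top _)) k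

/-- The difference of the two lifts of a product over one point. -/
def diffAt (ts : List ℕ) (words : List (List (List (List ℕ)))) (u : ℕ) : ℕ :=
  let ta := ts.getD 3 0
  let tb := ts.getD 4 0
  let x := wImg D.phis (get2 (words.getD 3 []) [] (tget tb u))
    (wImg D.phis (get2 (words.getD 4 []) [] u) 0)
  let y := wImg D.phis (get2 (words.getD 4 []) [] (tget ta u))
    (wImg D.phis (get2 (words.getD 3 []) [] u) 0)
  x % 3 + (3 - y % 3)

/-- All checks: five tables with words, the last two commuting with unequal lifts. -/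
def coverOK (ts : List ℕ) (words : List (List (List (List ℕ)))) : Bool :=
  D.fibreOK && D.lettersOK && Nat.blt 0 D.M && Nat.beq ts.length 5 &&
    (forBelow 5 fun i => D.wordsOK (ts.getD i 0) (words.getD i [])) &&
    wordEq D.n ts [3, 4] [4, 3] &&
    !Nat.beq (((List.range D.n).map (D.diffAt ts words)).sum % 3) 0

/-- The whole check from its parts. -/
theorem coverOK_of {ts : List ℕ} {words : List (List (List (List ℕ)))} (hf : D.fibreOK = true)
    (hl : D.lettersOK = true) (hw : ∀ i < 5, D.wordsOK (ts.getD i 0) (words.getD i []) = true)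
    (hrest : (Nat.blt 0 D.M && Nat.beq ts.length 5 && wordEq D.n ts [3, 4] [4, 3] &&
      !Nat.beq (((List.range D.n).map (D.diffAt ts words)).sum % 3) 0) = true) :
    D.coverOK ts words = true := by
  simp only [coverOK, Bool.and_eq_true, forBelow_iff] at hrest ⊢
  exact ⟨⟨⟨⟨⟨⟨hf, hl⟩, hrest.1.1.1⟩, hrest.1.1.2⟩, hw⟩, hrest.1.2⟩, hrest.2⟩

/-- The triple cover, when the group is generated by the tables. -/
theorem exists_cover [Finite K] {ts : List ℕ} {words : List (List (List (List ℕ)))}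
    (hok : D.coverOK ts words = true) (hK : K ≤ autR D.n D.R)
    (hhs : ∀ h ∈ D.hs, InTab K h) (htr : ∀ u < D.n, InTab K (D.ttab u))
    (hgens : ∀ t ∈ ts, InTab K t)
    (hlow : ∀ H : Subgroup (Perm (Fin D.n)), (∀ t ∈ ts, InTab H t) → Nat.card K ≤ Nat.card H) :
    ∃ (E : Type) (_ : Group E) (_ : Finite E) (τ : E →* K),
      Cfsg.IsStemExtension τ ∧ Nat.card τ.ker = 3 := by
  classical
  simp only [coverOK, Bool.and_eq_true, Bool.not_eq_true', forBelow_iff] at hok
  obtain ⟨⟨⟨⟨⟨⟨hD, hlet⟩, hM⟩, hlen⟩, hws⟩, hw⟩, hsum⟩ := hok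
  have hF : 0 < D.F := by
    have : 0 < D.M := Nat.le_of_ble_eq_true hM
    simp only [Data.F]; omega
  have hlen' : ts.length = 5 := Nat.eq_of_beq_eq_true hlen
  simp only [lettersOK, letterOK, strict_eq, Bool.and_eq_true, forBelow_iff, List.all_eq_true] at hlet
  obtain ⟨hplen, hlet⟩ := hlet
  have hdist : distinguishing D.n D.R D.B = true := by
    simp only [fibreOK, Bool.and_eq_true] at hD
    exact hD.1.1.1.1
  have hBlt : ∀ b ∈ D.B, b < D.n := by
    simp only [distinguishing, Bool.and_eq_true, List.all_eq_true, decide_eq_true_eq] at hdist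
    exact hdist.1
  have htu : ∀ u : Fin D.n, ∃ σ : Perm (Fin D.n), σ ∈ K ∧ IsTab σ (D.ttab u.val) := fun u => by
    obtain ⟨σ, h1, h2⟩ := htr u.val u.isLt; exact ⟨σ, h1, h2⟩
  choose tt htK httab using htu
  have hex : ∀ i, ∃ (σ : Perm (Fin D.n)) (φ : Perm (Fin D.F)), σ ∈ K ∧ D.LocGood σ φ ∧
      (i < D.hs.length → IsTab σ (D.hs.getD i 0) ∧ IsTab φ (D.phis.getD i 0)) := by
    intro i
    by_cases hi : i < D.hs.length
    · obtain ⟨σ, hσ, r⟩ := hhs (D.hs.getD i 0) (by
        rw [List.getD_eq_getElem _ _ hi]; exact List.getElem_mem _)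
      have h := hlet i hi
      have h1 : ∀ a < D.F, tget (D.phis.getD i 0) a < D.F := fun a ha =>
        Nat.le_of_ble_eq_true (h a ha).1.1.1.1
      let f : Fin D.F → Fin D.F := fun a => ⟨tget (D.phis.getD i 0) a.val, h1 _ a.isLt⟩
      have hinj : Function.Injective f := fun a b e => by
        have ea := Nat.eq_of_beq_eq_true (h a a.isLt).1.1.1.2
        have eb := Nat.eq_of_beq_eq_true (h b b.isLt).1.1.1.2
        exact Fin.ext (by
          rw [← ea, ← eb]
          exact congrArg (fun z : Fin D.F => tget (D.phiInvs.getD i 0) z.val) e)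
      refine ⟨σ, Equiv.ofBijective f (Finite.injective_iff_bijective.1 hinj), hσ,
        ⟨fun a hx => ?_, fun a hs => ?_, fun a b e => ?_⟩, fun _ => ⟨r, fun _ => rfl⟩⟩
      · rw [r]
        exact Nat.eq_of_beq_eq_true (h a a.isLt).1.2
      · exact Nat.eq_of_beq_eq_true (h a a.isLt).1.1.2
      · show (maskOf (get2 D.nb [] (tget (D.phis.getD i 0) a.val))).testBit _ = true
        rw [Signed.testBit_eq_bitN]
        exact (h a a.isLt).2 _ (D.adj_iff.1 e)
    · exact ⟨1, 1, one_mem _, D.locGood_one, fun h => absurd h hi⟩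
  choose sh ph hshK hloc htabs using hex
  have hlocw : ∀ w, D.LocGood (wval sh w) (wval ph w) := by
    intro w
    induction w with
    | nil => exact D.locGood_one
    | cons a w ih => rw [wval_cons, wval_cons]; exact D.locGood_mul (hloc a) ih
  have hshw : ∀ w, wval sh w ∈ K := by
    intro w
    induction w with
    | nil => exact one_mem K
    | cons a w ih => rw [wval_cons]; exact mul_mem (hshK a) ih
  have hlift : ∀ i, ∃ y : ↥(D.lifts tt K), i < 5 →
      IsTab (y.1.1 : Perm (Fin D.n)) (ts.getD i 0) ∧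
        ∀ (u : Fin D.n) (a : Fin D.F),
          (y.1.2 (u, a)).2.val = wImg D.phis (get2 (words.getD i []) [] u.val) a.val := by
    intro i
    by_cases hi : i < 5
    · obtain ⟨g, hg, r⟩ := hgens (ts.getD i 0) (by
        rw [List.getD_eq_getElem _ _ (hlen'.symm ▸ hi)]; exact List.getElem_mem _)
      have h := hws i hi
      simp only [wordsOK, strict_eq, Bool.and_eq_true, forBelow_iff, List.all_eq_true] at h
      let φ : Fin D.n → Perm (Fin D.F) := fun u => wval ph (get2 (words.getD i []) [] u.val)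
      let π : Perm (Fin D.n × Fin D.F) := Equiv.prodShear g φ
      refine ⟨⟨(⟨g, hg⟩, π), fun u => ⟨φ u, ?_, fun _ => rfl⟩⟩, fun _ => ⟨r, fun u a => ?_⟩⟩
      · have hwl : ∀ a ∈ get2 (words.getD i []) [] u.val, a < D.hs.length := fun a ha =>
          Nat.le_of_ble_eq_true ((h u u.isLt).1 a ha)
        have key : tt (g u) * wval sh (get2 (words.getD i []) [] u.val) = g * tt u := by
          refine eq_of_agree_on hdist (hK (mul_mem (htK _) (hshw _))) (hK (mul_mem hg (htK _)))
            fun x hx => Fin.ext ?_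
          have e := Nat.eq_of_beq_eq_true ((h u u.isLt).2 x.val hx)
          rw [Equiv.Perm.mul_apply, Equiv.Perm.mul_apply, httab (g u), r (tt u x), httab u x, r u,
            wImg_eq (fun a ha => (htabs a ha).1) hwl x]
          exact e
        have e2 : (tt (g u))⁻¹ * g * tt u = wval sh (get2 (words.getD i []) [] u.val) := by
          rw [mul_assoc, ← key, inv_mul_cancel_left]
        show D.LocGood ((tt (g u))⁻¹ * g * tt u) _
        rw [e2]
        exact hlocw _
      · refine wImg_eq (fun a ha => (htabs a ?_).2) (fun a ha => ?_) a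
        · exact Nat.eq_of_beq_eq_true hplen ▸ ha
        · rw [Nat.eq_of_beq_eq_true hplen]
          exact Nat.le_of_ble_eq_true ((h u u.isLt).1 a ha)
    · exact ⟨1, fun h => absurd h hi⟩
  choose y hy using hlift
  let f : ↥(D.lifts tt K) →* Perm (Fin D.n) := K.subtype.comp (D.proj tt K)
  have hbase : HasTabs ts fun i => f (y i) := fun i hi => (hy i (hlen' ▸ hi)).1
  have hsurj : Function.Surjective (D.proj tt K) := by
    have h := hlow ((D.proj tt K).range.map K.subtype) fun t ht => by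
      obtain ⟨i, hi, rfl⟩ := List.getElem_of_mem ht
      refine ⟨f (y i), ⟨_, ⟨y i, rfl⟩, rfl⟩, ?_⟩
      rw [← List.getD_eq_getElem _ 0 hi]
      exact hbase i hi
    rw [Subgroup.card_map_of_injective K.subtype_injective] at h
    exact MonoidHom.range_eq_top.1 (Subgroup.eq_top_of_le_card _ h)
  have hb : f (y 3) * f (y 4) = f (y 4) * f (y 3) := by
    have := (wordEq_iff hbase (by simp [hlen']) (by simp [hlen'])).1 hw
    simpa only [wval_cons, wval_nil, mul_one] using this
  have hcomm : Commute (D.proj tt K (y 3)) (D.proj tt K (y 4)) := Subtype.ext hb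
  refine D.exists_stem tt K hD hF hsurj hcomm ?_
  have hker : ⁅y 3, y 4⁆ ∈ (D.proj tt K).ker := by
    rw [MonoidHom.mem_ker, map_commutatorElement, commutatorElement_eq_one_iff_commute]
    exact hcomm
  have hz := D.ker_eq_shiftAll tt K hD hF hker
  let g3 : Perm (Fin D.n) := f (y 3)
  let g4 : Perm (Fin D.n) := f (y 4)
  have happ : ∀ (i : ℕ) (u : Fin D.n) (a : Fin D.F), (y i).1.2 (u, a) =
      (f (y i) u, ((y i).1.2 (u, a)).2) := fun i u a => by
    obtain ⟨φ, -, h⟩ := (y i).2 u
    rw [h]; rfl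
  have hfin : ∀ u : Fin D.n, D.resid tt K hF ⁅y 3, y 4⁆ (g4 (g3 u)) =
      (D.diffAt ts words u.val : ℕ) := by
    intro u
    have hsplit : y 3 * y 4 = ⁅y 3, y 4⁆ * (y 4 * y 3) := by
      simp [commutatorElement_def, mul_assoc]
    have e1 := congrArg (fun z : ↥(D.lifts tt K) => (z.1.2 (u, (⟨0, hF⟩ : Fin D.F)))) hsplit
    simp only [Subgroup.coe_mul, Prod.snd_mul, Equiv.Perm.mul_apply, hz] at e1
    rw [happ 4 u, happ 3 u] at e1
    rw [happ 3 (f (y 4) u), happ 4 (f (y 3) u)] at e1
    have e2 := congrArg (fun z : Fin D.n × Fin D.F => z.2.val) e1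
    simp only [Data.shiftAll, Equiv.coe_fn_mk] at e2
    have t4 : ∀ v, (f (y 4) v).val = tget (ts.getD 4 0) v.val := (hy 4 (by omega)).1
    have t3 : ∀ v, (f (y 3) v).val = tget (ts.getD 3 0) v.val := (hy 3 (by omega)).1
    simp only [(hy 4 (by omega)).2, (hy 3 (by omega)).2, t3, t4] at e2
    simp only [diffAt]
    rw [e2, shiftN_mod]
    show _ = _
    generalize D.resid tt K hF ⁅y 3, y 4⁆ (g4 (g3 u)) = c at e2 ⊢
    generalize wImg D.phis (get2 (words.getD 4 []) [] (tget (ts.getD 3 0) u.val))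
      (wImg D.phis (get2 (words.getD 3 []) [] u.val) 0) = q
    rw [show ((q % 3 + c.val) % 3 + (3 - q % 3) : ℕ) = c.val + 3 * ((q % 3 + (3 - q % 3)) / 3 -
      (q % 3 + c.val) / 3) by
        have := ZMod.val_lt c; omega, Nat.cast_add, Nat.cast_mul, ZMod.natCast_zmod_val]
    rw [show ((3 : ℕ) : ZMod 3) = 0 from rfl, zero_mul, add_zero]
  intro h0
  have hsum' : ((((List.range D.n).map (D.diffAt ts words)).sum : ℕ) : ZMod 3) = 0 := by
    rw [← h0, total, ← Equiv.sum_comp (g4 * g3) (D.resid tt K hF ⁅y 3, y 4⁆)]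
    simp only [Equiv.Perm.mul_apply, hfin]
    rw [← Nat.cast_sum]
    congr 1
    rw [← List.sum_toFinset _ List.nodup_range, List.toFinset_range,
      ← Fin.sum_univ_eq_sum_range]
  rw [ZMod.natCast_eq_zero_iff] at hsum'
  obtain ⟨k, hk⟩ := hsum'
  rw [hk, Nat.mul_mod_right] at hsum
  exact Bool.noConfusion hsum

end Data

end CfsgLib.GraphMult.Corestr
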