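import Cfsg.Agent.GraphPerm.Rigid

/-!
# The permutation model of a rigid data set as a group of known order
-/

set_option autoImplicit false

namespace CfsgLib.GraphMult

open CfsgLib.GraphPerm
open Equiv (Perm)

variable {D : RData}

/-- The tables of the strong generators lie in any subgroup with the three tables. -/
theorem inTab_strong {K : Subgroup (Perm (Fin D.n))} (hnorm : D.normOK = true)
    (horder : D.orderOK = true) (hgens : ∀ t ∈ D.gens, InTab K t) :
    D.p * D.N ≤ Nat.card K := by
  simp only [RData.normOK, Bool.and_eq_true] at hnorm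
  simp only [RData.orderOK, Bool.and_eq_true, List.all_eq_true, List.contains_eq_mem,
    decide_eq_true_eq, beq_iff_eq] at horder
  obtain ⟨⟨⟨⟨hstrong, hchain⟩, hprod⟩, -⟩, -⟩ := horder
  have hin : ∀ t ∈ D.inner, InTab K t := inTab_slp D.steps D.gens hgens hnorm.1.1.1.1.1.1
  exact hprod ▸ chainProd_le_card (fun t ht => hin t (hstrong t ht)) D.levels hchain

/-- The model: an isomorphism onto a group of symmetries with the three tables. -/
theorem exists_group {H : Type*} [Group H] [Finite H] (ρ : H →* Perm (Fin D.n))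
    (hbase : D.baseOK = true) (hnorm : D.normOK = true) (horder : D.orderOK = true)
    (hH : Nat.card H ≤ D.p * D.N) (hgens : ∀ t ∈ D.gens, InTab ρ.range t) :
    ∃ K : Subgroup (Perm (Fin D.n)), Nonempty (H ≃* K) ∧ Nat.card K = D.p * D.N ∧
      K ≤ autR D.n D.R ∧ ∀ t ∈ D.gens, InTab K t := by
  have hlow := inTab_strong hnorm horder hgens
  have hKH : Nat.card ρ.range ≤ Nat.card H := Nat.card_le_card_of_surjective ρ.rangeRestrict
    ρ.rangeRestrict_surjective
  have hinj : Function.Injective ρ := by
    have hbij := (Nat.bijective_iff_surjective_and_card ρ.rangeRestrict).2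
      ⟨ρ.rangeRestrict_surjective, show Nat.card H = Nat.card ρ.range by omega⟩
    exact fun x y e => hbij.injective (Subtype.ext e)
  refine ⟨ρ.range, ⟨MonoidHom.ofInjective hinj⟩, by omega, ?_, hgens⟩
  simp only [RData.baseOK, Bool.and_eq_true, List.all_eq_true, List.mem_cons, List.not_mem_nil,
    or_false, forall_eq_or_imp, forall_eq] at hbase
  obtain ⟨⟨⟨⟨⟨⟨hAa, hAb, hAc, -⟩, -⟩, -⟩, -⟩, -⟩, -⟩ := hbase
  have hinf : ∀ t ∈ D.gens, InTab (ρ.range ⊓ autR D.n D.R) t := by
    intro t ht
    obtain ⟨σ, hσ, r⟩ := hgens t ht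
    refine ⟨σ, ⟨hσ, mem_autR_of_isAut r ?_⟩, r⟩
    simp only [RData.gens, List.mem_cons, List.not_mem_nil, or_false] at ht
    rcases ht with rfl | rfl | rfl
    exacts [hAa, hAb, hAc]
  have := inTab_strong hnorm horder hinf
  exact inf_eq_left.1 (Subgroup.eq_of_le_of_card_ge inf_le_left (by omega))

end CfsgLib.GraphMult
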