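import Cfsg.Agent.GraphMult.Based
import Cfsg.Agent.GraphMult.Bound
import Cfsg.Agent.GraphMult.Model
import Cfsg.Agent.GraphMult.Signed
import Cfsg.Agent.GraphMult.HSSylow
import Cfsg.Agent.GraphMult.HSCoverData
import Cfsg.Agent.GraphPerm.HSOut
import Cfsg.Agent.SchurBound.Basic

/-!
# The multiplier of the Higman–Sims group has order two
-/

set_option autoImplicit false
set_option Elab.async false
set_option maxRecDepth 100000
set_option linter.style.haveILetI false

namespace CfsgLib.GraphMult.HS

open CfsgLib.GraphPerm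
open CfsgLib.GraphPerm.HSModel (data)
open CfsgLib.Schur.PermCert
open Equiv (Perm)

theorem exists_model : ∃ K : Subgroup (Perm (Fin 100)), Nonempty (Cfsg.Spor.HS ≃* K) ∧
    Nat.card K = 44352000 ∧ K ≤ autR 100 data.R ∧ ∀ t ∈ data.gens, InTab K t := by
  obtain ⟨hfin, hle⟩ := HSModel.natCard_le
  obtain ⟨ρ, hgens, -⟩ := HSModel.exists_rho
  exact exists_group ρ HSModel.baseOK HSModel.normOK HSModel.orderOK hle hgens

theorem dist_ok : distinguishing 100 data.R data.BA = true := by decide +kernel

theorem steps_ok : slpOK 100 data.gens HSSylow.steps = true :=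
  slpOK_of_fast _ _ _ (by decide +kernel)

theorem letters_ok :
    HSSylow.letters.all (slpTabs data.gens HSSylow.steps).contains = true := by decide +kernel

theorem head2 : spanHead HSSylow.cert2 HSSylow.cert2Span 2 = true := by decide +kernel

theorem eqs2 : (HSSylow.cert2.equations == HSSylow.cert2.eqs) = true := by decide +kernel

theorem rowsLo2 : ((List.range HSSylow.cert2.rules.length).take 22).all (spanRow HSSylow.cert2 HSSylow.cert2Span) = true := by
  decide +kernel

theorem rowsHi2 : ((List.range HSSylow.cert2.rules.length).drop 22).all (spanRow HSSylow.cert2 HSSylow.cert2Span) = true := by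
  decide +kernel

theorem table2 : tableOK HSSylow.cert2 HSSylow.words2 HSSylow.fusWords2 (tabOf HSSylow.letters) 100 data.BA
    HSSylow.keyPts2 = true := by decide +kernel

theorem keys2 : noDup ((Schur.Pc.normalWords HSSylow.cert2.p HSSylow.cert2.n 0).map fun w =>
    keyOf (tabOf HSSylow.letters) HSSylow.keyPts2 (Based.expand HSSylow.words2 w)) = true :=
  noDup_of_residues 4845 (by decide +kernel)

theorem ok2 : spanBasedOK HSSylow.cert2 HSSylow.cert2Span 2 HSSylow.words2 HSSylow.fusWords2
    HSSylow.keyPts2 (tabOf HSSylow.letters) 100 data.BA = true :=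
  spanBasedOK_of head2 eqs2 22 rowsLo2 rowsHi2 table2 keys2

theorem ok3 : spanBasedOK HSSylow.cert3 HSSylow.cert3Span 1 HSSylow.words3 HSSylow.fusWords3
    HSSylow.keyPts3 (tabOf HSSylow.letters) 100 data.BA = true := by decide +kernel

theorem ok5 : spanBasedOK HSSylow.cert5 HSSylow.cert5Span 1 HSSylow.words5 HSSylow.fusWords5
    HSSylow.keyPts5 (tabOf HSSylow.letters) 100 data.BA = true := by decide +kernel

theorem ok7 : primeOk 7 HSSylow.word7 HSSylow.moved7 (tabOf HSSylow.letters) 100 data.BA = true := by
  decide +kernel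

theorem ok11 :
    primeOk 11 HSSylow.word11 HSSylow.moved11 (tabOf HSSylow.letters) 100 data.BA = true := by
  decide +kernel

theorem data_ok : HSCover.data.OK = true := by decide +kernel

theorem nb0_ok : HSCover.data.nbOK (HSCover.lifts.getD 0 0)
    (HSCover.liftInvs.getD 0 0) = true := by decide +kernel

theorem lab0_ok : HSCover.data.labOK data.a (HSCover.lifts.getD 0 0) = true := by
  decide +kernel

theorem nb1_ok : HSCover.data.nbOK (HSCover.lifts.getD 1 0)
    (HSCover.liftInvs.getD 1 0) = true := by decide +kernel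

theorem lab1_ok : HSCover.data.labOK data.b (HSCover.lifts.getD 1 0) = true := by
  decide +kernel

theorem nb2_ok : HSCover.data.nbOK (HSCover.lifts.getD 2 0)
    (HSCover.liftInvs.getD 2 0) = true := by decide +kernel

theorem lab2_ok : HSCover.data.labOK data.c (HSCover.lifts.getD 2 0) = true := by
  decide +kernel

theorem comm_ok : HSCover.data.commOK data.gens HSCover.lifts HSCover.commU HSCover.commV
    HSCover.witness = true := by decide +kernel

/-- The multiplier of HS has order two. -/
theorem multiplier : Cfsg.HasCyclicSchurMultiplier ↥Cfsg.Spor.HS 2 := by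
  obtain ⟨K, ⟨e⟩, hcard, haut, hgens⟩ := exists_model
  refine SchurBound.hasSchurMultiplier_congr e.symm ?_
  obtain ⟨B, hN, htab, hbase⟩ :=
    exists_based dist_ok haut (inTab_of_slp hgens steps_ok letters_ok)
  haveI : Finite K := inferInstance
  have hnb : ∀ i < 3, HSCover.data.nbOK (HSCover.lifts.getD i 0)
      (HSCover.liftInvs.getD i 0) = true := by
    intro i hi
    rcases i with _ | _ | _ | i
    exacts [nb0_ok, nb1_ok, nb2_ok, absurd hi (by omega)]
  have hlab : ∀ i < 3, HSCover.data.labOK (data.gens.getD i 0) (HSCover.lifts.getD i 0) = true := by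
    intro i hi
    rcases i with _ | _ | _ | i
    exacts [lab0_ok, lab1_ok, lab2_ok, absurd hi (by omega)]
  obtain ⟨E, _, _, τ, hτ, hτc⟩ := @Signed.Data.exists_cover HSCover.data K inferInstance data.gens
    HSCover.lifts HSCover.liftInvs HSCover.commU HSCover.commV HSCover.witness data_ok hnb hlab
    comm_ok hgens (fun H hH => by
      have hlow := inTab_strong (D := data) (K := H) HSModel.normOK HSModel.orderOK hH
      have hN : data.p * data.N = 44352000 := by decide +kernel
      exact hcard.le.trans (hN ▸ hlow))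
  refine hasCyclicSchurMultiplier_of_bounds (m := 86625) Nat.prime_two (by norm_num) τ hτ hτc
    (fun Γ _ _ σ hσ => ker_pow_mem_of_based B HSSylow.cert2 HSSylow.cert2Span 2 HSSylow.words2
      HSSylow.fusWords2 HSSylow.keyPts2 (by rw [htab, hN, hbase]; exact ok2) Nat.prime_two
      (by rw [hcard]; decide +kernel) σ hσ)
    fun q hq hq2 hd Γ _ _ σ hσ => ?_
  rw [hcard, show (44352000 : ℕ) = 2 ^ 9 * (3 ^ 2 * (5 ^ 3 * (7 * 11))) by norm_num] at hd
  simp only [hq.dvd_mul] at hd
  rcases hd with h | h | h | h | h
  · exact absurd ((Nat.prime_dvd_prime_iff_eq hq Nat.prime_two).1 (hq.dvd_of_dvd_pow h)) hq2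
  · obtain rfl := (Nat.prime_dvd_prime_iff_eq hq Nat.prime_three).1 (hq.dvd_of_dvd_pow h)
    exact not_dvd_of_span B HSSylow.cert3 HSSylow.cert3Span HSSylow.words3 HSSylow.fusWords3
      HSSylow.keyPts3 (by rw [htab, hN, hbase]; exact ok3) Nat.prime_three
      (m := 4928000) (by rw [hcard]; decide +kernel) (show ¬ 3 ∣ _ by norm_num) σ hσ
  · obtain rfl := (Nat.prime_dvd_prime_iff_eq hq (by norm_num)).1 (hq.dvd_of_dvd_pow h)
    exact not_dvd_of_span B HSSylow.cert5 HSSylow.cert5Span HSSylow.words5 HSSylow.fusWords5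
      HSSylow.keyPts5 (by rw [htab, hN, hbase]; exact ok5) (show Nat.Prime 5 by norm_num)
      (m := 354816) (by rw [hcard]; decide +kernel) (show ¬ 5 ∣ _ by norm_num) σ hσ
  · obtain rfl := (Nat.prime_dvd_prime_iff_eq hq (by norm_num)).1 h
    exact not_dvd_of_prime B 7 HSSylow.word7 HSSylow.moved7 (by rw [htab, hN, hbase]; exact ok7)
      (by norm_num) (m := 6336000) (by rw [hcard]) (by norm_num) σ hσ
  · obtain rfl := (Nat.prime_dvd_prime_iff_eq hq (by norm_num)).1 h
    exact not_dvd_of_prime B 11 HSSylow.word11 HSSylow.moved11 (by rw [htab, hN, hbase]; exact ok11)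
      (by norm_num) (m := 4032000) (by rw [hcard]) (by norm_num) σ hσ

end CfsgLib.GraphMult.HS
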