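import Cfsg.Agent.GraphMult.Based
import Cfsg.Agent.GraphMult.Bound
import Cfsg.Agent.GraphMult.Model
import Cfsg.Agent.GraphMult.Corestr
import Cfsg.Agent.GraphMult.McLSylow
import Cfsg.Agent.GraphMult.McLCoverData
import Cfsg.Agent.GraphPerm.McLOut
import Cfsg.Agent.SchurBound.Basic

/-!
# The multiplier of the McLaughlin group has order three
-/

set_option autoImplicit false
set_option Elab.async false
set_option maxRecDepth 100000
set_option linter.style.haveILetI false

namespace CfsgLib.GraphMult.McL

open CfsgLib.GraphPerm
open CfsgLib.GraphPerm.McLModel (data)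
open CfsgLib.Schur.PermCert
open Equiv (Perm)

theorem exists_model : ∃ K : Subgroup (Perm (Fin 275)), Nonempty (Cfsg.Spor.McL ≃* K) ∧
    Nat.card K = 898128000 ∧ K ≤ autR 275 data.R ∧ ∀ t ∈ data.gens, InTab K t := by
  obtain ⟨hfin, hle⟩ := McLModel.natCard_le
  obtain ⟨ρ, hgens, -⟩ := McLModel.exists_rho
  exact exists_group ρ McLModel.baseOK McLModel.normOK McLModel.orderOK hle hgens

theorem dist_ok : distinguishing 275 data.R data.BA = true := by decide +kernel

theorem steps_ok1 : slpFast 275 data.gens (McLSylow.steps.take 160) = true := by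
  decide +kernel

theorem steps_ok2 : slpFast 275 (slpTabs data.gens (McLSylow.steps.take 160))
    ((McLSylow.steps.drop 160).take 120) = true := by decide +kernel

theorem steps_ok3 : slpFast 275 (slpTabs (slpTabs data.gens (McLSylow.steps.take 160))
    ((McLSylow.steps.drop 160).take 120)) ((McLSylow.steps.drop 160).drop 120) = true := by
  decide +kernel

theorem steps_ok : slpOK 275 data.gens McLSylow.steps = true :=
  slpOK_of_parts 275 _ _ 160 120 steps_ok1 steps_ok2 steps_ok3

theorem letters_ok :
    McLSylow.letters.all (slpTabs data.gens McLSylow.steps).contains = true := by decide +kernel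

theorem head2 : spanHead McLSylow.cert2 McLSylow.cert2Span 1 = true := by decide +kernel

theorem eqs2 : (McLSylow.cert2.equations == McLSylow.cert2.eqs) = true := by decide +kernel

theorem rowsLo2 : ((List.range McLSylow.cert2.rules.length).take 14).all (spanRow McLSylow.cert2 McLSylow.cert2Span) = true := by
  decide +kernel

theorem rowsHi2 : ((List.range McLSylow.cert2.rules.length).drop 14).all (spanRow McLSylow.cert2 McLSylow.cert2Span) = true := by
  decide +kernel

theorem table2 : tableOK McLSylow.cert2 McLSylow.words2 McLSylow.fusWords2 (tabOf McLSylow.letters) 275 data.BA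
    McLSylow.keyPts2 = true := by decide +kernel

theorem keys2 : noDup ((Schur.Pc.normalWords McLSylow.cert2.p McLSylow.cert2.n 0).map fun w =>
    keyOf (tabOf McLSylow.letters) McLSylow.keyPts2 (Based.expand McLSylow.words2 w)) = true :=
  noDup_of_residues 1391 (by decide +kernel)

theorem ok2 : spanBasedOK McLSylow.cert2 McLSylow.cert2Span 1 McLSylow.words2 McLSylow.fusWords2
    McLSylow.keyPts2 (tabOf McLSylow.letters) 275 data.BA = true :=
  spanBasedOK_of head2 eqs2 14 rowsLo2 rowsHi2 table2 keys2

theorem head3 : spanHead McLSylow.cert3 McLSylow.cert3Span 3 = true := by decide +kernel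

theorem eqs3 : (McLSylow.cert3.equations == McLSylow.cert3.eqs) = true := by decide +kernel

theorem rowsLo3 : ((List.range McLSylow.cert3.rules.length).take 10).all (spanRow McLSylow.cert3 McLSylow.cert3Span) = true := by
  decide +kernel

theorem rowsHi3 : ((List.range McLSylow.cert3.rules.length).drop 10).all (spanRow McLSylow.cert3 McLSylow.cert3Span) = true := by
  decide +kernel

theorem table3 : tableOK McLSylow.cert3 McLSylow.words3 McLSylow.fusWords3 (tabOf McLSylow.letters) 275 data.BA
    McLSylow.keyPts3 = true := by decide +kernel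

theorem keys3 : noDup ((Schur.Pc.normalWords McLSylow.cert3.p McLSylow.cert3.n 0).map fun w =>
    keyOf (tabOf McLSylow.letters) McLSylow.keyPts3 (Based.expand McLSylow.words3 w)) = true :=
  noDup_of_residues 25513 (by decide +kernel)

theorem ok3 : spanBasedOK McLSylow.cert3 McLSylow.cert3Span 3 McLSylow.words3 McLSylow.fusWords3
    McLSylow.keyPts3 (tabOf McLSylow.letters) 275 data.BA = true :=
  spanBasedOK_of head3 eqs3 10 rowsLo3 rowsHi3 table3 keys3

theorem ok5 : spanBasedOK McLSylow.cert5 McLSylow.cert5Span 1 McLSylow.words5 McLSylow.fusWords5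
    McLSylow.keyPts5 (tabOf McLSylow.letters) 275 data.BA = true := by decide +kernel

theorem ok7 :
    primeOk 7 McLSylow.word7 McLSylow.moved7 (tabOf McLSylow.letters) 275 data.BA = true := by
  decide +kernel

theorem ok11 :
    primeOk 11 McLSylow.word11 McLSylow.moved11 (tabOf McLSylow.letters) 275 data.BA = true := by
  decide +kernel

theorem cover_steps_ok1 : slpFast 275 data.gens (McLCover.steps.take 200) = true := by
  decide +kernel

theorem cover_steps_ok2 : slpFast 275 (slpTabs data.gens (McLCover.steps.take 200))
    ((McLCover.steps.drop 200).take 170) = true := by decide +kernel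

theorem cover_steps_ok3 : slpFast 275 (slpTabs (slpTabs data.gens (McLCover.steps.take 200))
    ((McLCover.steps.drop 200).take 170)) ((McLCover.steps.drop 200).drop 170) = true := by
  decide +kernel

theorem cover_steps_ok : slpOK 275 data.gens McLCover.steps = true :=
  slpOK_of_parts 275 _ _ 200 170 cover_steps_ok1 cover_steps_ok2 cover_steps_ok3

/-- The tables used by the cover. -/
def coverTabs : List ℕ := McLCover.pairTabs ++ McLCover.data.hs ++ McLCover.data.trans.flatten

theorem coverTabs_ok : coverTabs.all (slpTabs data.gens McLCover.steps).contains = true := by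
  decide +kernel

theorem trans_ok : (forBelow 275 fun u => coverTabs.contains (McLCover.data.ttab u)) = true := by
  decide +kernel

theorem fibre_ok : McLCover.data.fibreOK = true := by decide +kernel

theorem cover_letters_ok : McLCover.data.lettersOK = true := by decide +kernel

theorem words0_ok : McLCover.data.wordsOK ((data.gens ++ McLCover.pairTabs).getD 0 0)
    (McLCover.words.getD 0 []) = true := by decide +kernel

theorem words1_ok : McLCover.data.wordsOK ((data.gens ++ McLCover.pairTabs).getD 1 0)
    (McLCover.words.getD 1 []) = true := by decide +kernel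

theorem words2_ok : McLCover.data.wordsOK ((data.gens ++ McLCover.pairTabs).getD 2 0)
    (McLCover.words.getD 2 []) = true := by decide +kernel

theorem words3_ok : McLCover.data.wordsOK ((data.gens ++ McLCover.pairTabs).getD 3 0)
    (McLCover.words.getD 3 []) = true := by decide +kernel

theorem words4_ok : McLCover.data.wordsOK ((data.gens ++ McLCover.pairTabs).getD 4 0)
    (McLCover.words.getD 4 []) = true := by decide +kernel

theorem cover_rest_ok : (Nat.blt 0 McLCover.data.M &&
    Nat.beq (data.gens ++ McLCover.pairTabs).length 5 &&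
    wordEq McLCover.data.n (data.gens ++ McLCover.pairTabs) [3, 4] [4, 3] &&
    !Nat.beq (((List.range McLCover.data.n).map
      (McLCover.data.diffAt (data.gens ++ McLCover.pairTabs) McLCover.words)).sum % 3) 0) = true := by
  decide +kernel

theorem cover_ok : McLCover.data.coverOK (data.gens ++ McLCover.pairTabs) McLCover.words = true := by
  refine McLCover.data.coverOK_of fibre_ok cover_letters_ok (fun i hi => ?_) cover_rest_ok
  rcases i with _ | _ | _ | _ | _ | i
  exacts [words0_ok, words1_ok, words2_ok, words3_ok, words4_ok, absurd hi (by omega)]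

/-- The multiplier of McL has order three. -/
theorem multiplier : Cfsg.HasCyclicSchurMultiplier ↥Cfsg.Spor.McL 3 := by
  obtain ⟨K, ⟨e⟩, hcard, haut, hgens⟩ := exists_model
  refine SchurBound.hasSchurMultiplier_congr e.symm ?_
  obtain ⟨B, hN, htab, hbase⟩ :=
    exists_based dist_ok haut (inTab_of_slp hgens steps_ok letters_ok)
  have hcov : ∀ t ∈ coverTabs, InTab K t := inTab_of_slp hgens cover_steps_ok coverTabs_ok
  haveI : Finite K := inferInstance
  obtain ⟨E, _, _, τ, hτ, hτc⟩ :=
    @Corestr.Data.exists_cover McLCover.data K _ _ _ cover_ok haut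
      (fun t ht => hcov t (List.mem_append_left _ (List.mem_append_right _ ht)))
      (fun u hu => hcov _ (List.contains_iff_mem.1 (forBelow_iff.1 trans_ok u hu)))
      (fun t ht => (List.mem_append.1 ht).elim (hgens t) fun h =>
        hcov t (List.mem_append_left _ (List.mem_append_left _ h)))
      (fun H hH => by
        have hlow := inTab_strong (D := data) (K := H) McLModel.normOK McLModel.orderOK
          fun t ht => hH t (List.mem_append_left _ ht)
        have hN : data.p * data.N = 898128000 := by decide +kernel
        exact hcard.le.trans (hN ▸ hlow))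
  refine hasCyclicSchurMultiplier_of_bounds (m := 1232000) Nat.prime_three (by norm_num) τ hτ hτc
    (fun Γ _ _ σ hσ => ker_pow_mem_of_based B McLSylow.cert3 McLSylow.cert3Span 3 McLSylow.words3
      McLSylow.fusWords3 McLSylow.keyPts3 (by rw [htab, hN, hbase]; exact ok3) Nat.prime_three
      (by rw [hcard]; decide +kernel) σ hσ)
    fun q hq hq3 hd Γ _ _ σ hσ => ?_
  rw [hcard, show (898128000 : ℕ) = 2 ^ 7 * (3 ^ 6 * (5 ^ 3 * (7 * 11))) by norm_num] at hd
  simp only [hq.dvd_mul] at hd
  rcases hd with h | h | h | h | h
  · obtain rfl := (Nat.prime_dvd_prime_iff_eq hq Nat.prime_two).1 (hq.dvd_of_dvd_pow h)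
    exact not_dvd_of_span B McLSylow.cert2 McLSylow.cert2Span McLSylow.words2 McLSylow.fusWords2
      McLSylow.keyPts2 (by rw [htab, hN, hbase]; exact ok2) Nat.prime_two
      (m := 7016625) (by rw [hcard]; decide +kernel) (show ¬ 2 ∣ _ by norm_num) σ hσ
  · exact absurd ((Nat.prime_dvd_prime_iff_eq hq Nat.prime_three).1 (hq.dvd_of_dvd_pow h)) hq3
  · obtain rfl := (Nat.prime_dvd_prime_iff_eq hq (by norm_num)).1 (hq.dvd_of_dvd_pow h)
    exact not_dvd_of_span B McLSylow.cert5 McLSylow.cert5Span McLSylow.words5 McLSylow.fusWords5
      McLSylow.keyPts5 (by rw [htab, hN, hbase]; exact ok5) (show Nat.Prime 5 by norm_num)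
      (m := 7185024) (by rw [hcard]; decide +kernel) (show ¬ 5 ∣ _ by norm_num) σ hσ
  · obtain rfl := (Nat.prime_dvd_prime_iff_eq hq (by norm_num)).1 h
    exact not_dvd_of_prime B 7 McLSylow.word7 McLSylow.moved7 (by rw [htab, hN, hbase]; exact ok7)
      (by norm_num) (m := 128304000) (by rw [hcard]) (by norm_num) σ hσ
  · obtain rfl := (Nat.prime_dvd_prime_iff_eq hq (by norm_num)).1 h
    exact not_dvd_of_prime B 11 McLSylow.word11 McLSylow.moved11
      (by rw [htab, hN, hbase]; exact ok11)
      (by norm_num) (m := 81648000) (by rw [hcard]) (by norm_num) σ hσ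

end CfsgLib.GraphMult.McL
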